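import Groth.Agent.L22.ExtProd.Rat
import Groth.Agent.L22.Chern.Ops
import Groth.Agent.L22.C1.PullCap
import Groth.Agent.L22.SymCorr.Dim
import Groth.Agent.L16.Bivar.Clopen
import Groth.Agent.L22.Cyc.PushPull
import Groth.Agent.S1859

/-!
Exterior products of cycles over a field as sums of push-forwards of flat pull-backs.
-/

set_option autoImplicit false
set_option linter.style.haveILetI false
set_option linter.unusedSectionVars false
set_option maxHeartbeats 800000
set_option maxSynthPendingDepth 3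
set_option backward.isDefEq.respectTransparency.types false
set_option backward.isDefEq.respectTransparency false

universe u

open CategoryTheory CategoryTheory.Limits AlgebraicGeometry TopologicalSpace
open Groth.L22.Cyc (rtrdeg FibGen)
open Groth.L22.Chern (pullC pullC_apply pullC_coe pullC_mem pushC pushC_eq Shift)

noncomputable section

namespace Groth.L22.Kron

variable {P X Y : Scheme.{u}}

/-- The length of the fibre of a product over the pair of projections. -/
def lenSup (q1 : P ⟶ X) (q2 : P ⟶ Y) (z : P) : ℤ :=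
  ((Module.length (P.presheaf.stalk z) (↑(P.presheaf.stalk z) ⧸
    ((IsLocalRing.maximalIdeal (X.presheaf.stalk (q1 z))).map (q1.stalkMap z).hom ⊔
      (IsLocalRing.maximalIdeal (Y.presheaf.stalk (q2 z))).map (q2.stalkMap z).hom))).toNat : ℤ)

/-- The coefficients of an exterior product. -/
def prodVal (q1 : P ⟶ X) (q2 : P ⟶ Y) (δX : X → ℤ) (δY : Y → ℤ) (δP : P → ℤ) (α : X → ℤ) (β : Y → ℤ) (z : P) : ℤ :=
  if δP z = δX (q1 z) + δY (q2 z) then α (q1 z) * β (q2 z) * lenSup q1 q2 z else 0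

theorem prodVal_add_left (q1 : P ⟶ X) (q2 : P ⟶ Y) (δX : X → ℤ) (δY : Y → ℤ) (δP : P → ℤ) (α α' : X → ℤ)
    (β : Y → ℤ) (z : P) :
    prodVal q1 q2 δX δY δP (α + α') β z = prodVal q1 q2 δX δY δP α β z + prodVal q1 q2 δX δY δP α' β z := by
  simp only [prodVal, Pi.add_apply]
  split_ifs <;> ring

theorem prodVal_flip (q1 : P ⟶ X) (q2 : P ⟶ Y) (δX : X → ℤ) (δY : Y → ℤ) (δP : P → ℤ) (α : X → ℤ) (β : Y → ℤ) :
    prodVal q2 q1 δY δX δP β α = prodVal q1 q2 δX δY δP α β := by
  funext z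
  simp only [prodVal, lenSup]
  rw [add_comm (δY _), mul_comm (β _), sup_comm]

variable {K : Type u} [Field K] {q1 : P ⟶ X} {q2 : P ⟶ Y} {f : X ⟶ Spec (CommRingCat.of K)}
  {g : Y ⟶ Spec (CommRingCat.of K)} [LocallyOfFiniteType f] [LocallyOfFiniteType g]
  (sq : IsPullback q1 q2 f g) {δX : X → ℤ} {δY : Y → ℤ} {δP : P → ℤ}
  (hX : Cyc.DeltaCompat f δX fun _ => 0) (hY : Cyc.DeltaCompat g δY fun _ => 0)
  (hP : Cyc.DeltaCompat (q1 ≫ f) δP fun _ => 0)

/-- An integral scheme over a field has relative dimension the dimension of its generic point. -/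
theorem hasRelDim_integral {W : Scheme.{u}} [IsIntegral W] (h : W ⟶ Spec (CommRingCat.of K)) [LocallyOfFiniteType h]
    {r : ℕ} (hr : rtrdeg h (genericPoint W) = r) : Cyc.HasRelDim h r :=
  Groth.L22.Cyc.hasRelDim_of_rtrdeg h fun x hx => by
    rw [← hx (genericPoint W) (Subsingleton.elim (α := PrimeSpectrum K) _ _) (genericPoint_specializes _)]
    exact hr

include sq in
theorem flat_piece {W E : Scheme.{u}} {ι : W ⟶ Y} {j : E ⟶ P} {pW : E ⟶ W} (sqE : IsPullback j pW q2 ι) :
    Flat (j ≫ q1) := by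
  haveI : Flat (ι ≫ g) := Groth.L07.SyntOverField.flat_over_field (ι ≫ g)
  exact MorphismProperty.of_isPullback ((sqE.flip.paste_vert sq.flip).flip).flip ‹Flat (ι ≫ g)›

include sq hX hY hP in
/-- Over a point of the second factor the first projection shifts dimensions by its dimension. -/
theorem shift_piece {W E : Scheme.{u}} [IsIntegral W] {ι : W ⟶ Y} [IsClosedImmersion ι] {j : E ⟶ P}
    [IsClosedImmersion j] {pW : E ⟶ W} (sqE : IsPullback j pW q2 ι) :
    Shift (j ≫ q1) (fun t => δP (j t)) δX (δY (ι (genericPoint W))) := fun z hz => by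
  have sqW : IsPullback (j ≫ q1) pW f (ι ≫ g) := (sqE.flip.paste_vert sq.flip).flip
  have hc : Cyc.DeltaCompat (j ≫ q1) (fun t => δP (j t)) δX := Groth.L22.Bundle.deltaCompat_cancel (j ≫ q1) f
    (by rw [Category.assoc]; exact Groth.L22.Bundle.deltaCompat_comp j (q1 ≫ f) hP) hX
  have h := Groth.L22.Cyc.FibGen.of_baseChange sqW.flip hz
  have hgen : pW z = genericPoint W :=
    (h (genericPoint W) (Subsingleton.elim (α := PrimeSpectrum K) _ _) (genericPoint_specializes _)).symm
  obtain ⟨n, hn, hd⟩ := hc z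
  obtain ⟨m, hm, hdm⟩ := Groth.L22.Bundle.deltaCompat_comp ι g hY (genericPoint W)
  have e := Groth.L22.Cyc.rtrdeg_baseChange sqW.flip hz
  rw [hgen, show rtrdeg (ι ≫ g) (genericPoint W) = (m : Cardinal.{u}) from hm,
    show rtrdeg (j ≫ q1) z = (n : Cardinal.{u}) from hn] at e
  have hnm : n = m := by exact_mod_cast e
  replace hdm : δY (ι (genericPoint W)) = (0 : ℤ) + m := hdm
  rw [hd, hnm]
  omega

include sq hX hY hP in
open Classical in
/-- The push-forward of a flat pull-back to the part of the product over a point. -/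
theorem point_formula [IsLocallyNoetherian P] {W E : Scheme.{u}} [IsIntegral W] {ι : W ⟶ Y} [IsClosedImmersion ι] {j : E ⟶ P}
    [IsClosedImmersion j] [IsLocallyNoetherian E] {pW : E ⟶ W} (sqE : IsPullback j pW q2 ι) (w : Y)
    (hw : ι (genericPoint W) = w) {c : ℤ} (hsh : Shift (j ≫ q1) (fun t => δP (j t)) δX c)
    (α : AlgebraicCycle X ℤ) (z : P) :
    pushC j (fun t => δP (j t)) δP (pullC (j ≫ q1) hsh α) z =
      if δP z = δX (q1 z) + δY (q2 z) ∧ q2 z = w then α (q1 z) * lenSup q1 q2 z else 0 := by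
  have sqW : IsPullback (j ≫ q1) pW f (ι ≫ g) := (sqE.flip.paste_vert sq.flip).flip
  haveI := flat_piece sq sqE
  have hsh' := shift_piece sq hX hY hP sqE
  by_cases hz : z ∈ Set.range j
  swap
  · rw [Groth.L22.SubBundle.pushC_outside j δP _ hz, if_neg]
    rintro ⟨-, h⟩
    obtain ⟨t, ht, -⟩ := Scheme.exists_preimage_of_isPullback sqE z (genericPoint W) (h.trans hw.symm)
    exact hz ⟨t, ht⟩
  obtain ⟨t, rfl⟩ := hz
  rw [Groth.L22.SubBundle.pushC_apply_closed, pullC_apply]
  have hq : q2 (j t) = ι (pW t) := by rw [← Scheme.Hom.comp_apply, sqE.w, Scheme.Hom.comp_apply]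
  have hgen : ∀ z, FibGen (j ≫ q1) z → pW z = genericPoint W := fun z hz =>
    ((Groth.L22.Cyc.FibGen.of_baseChange sqW.flip hz) (genericPoint W)
      (Subsingleton.elim (α := PrimeSpectrum K) _ _) (genericPoint_specializes _)).symm
  by_cases hg : pW t = genericPoint W
  swap
  · rw [Groth.L22.Cyc.mult_eq_top fun h => hg (hgen t h), if_neg]
    · simp
    · rintro ⟨-, h⟩
      exact hg (ι.isClosedEmbedding.injective (hq.symm.trans (h.trans hw.symm)))
  have hqw : q2 (j t) = w := by rw [hq, hg]; exact hw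
  have hlen : Groth.L22.Cyc.mult (j ≫ q1) t = Module.length (P.presheaf.stalk (j t)) (↑(P.presheaf.stalk (j t)) ⧸
      ((IsLocalRing.maximalIdeal (X.presheaf.stalk (q1 (j t)))).map (q1.stalkMap (j t)).hom ⊔
        (IsLocalRing.maximalIdeal (Y.presheaf.stalk (q2 (j t)))).map (q2.stalkMap (j t)).hom)) := by
    have hη : Groth.L20.SeeNormal.sI ι.ker (ι (pW t)) = IsLocalRing.maximalIdeal (Y.presheaf.stalk (ι (pW t))) := by
      rw [← Groth.L20.Infinitesimal.ker_stalkMap]
      have hf : IsField (W.presheaf.stalk (pW t)) := by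
        rw [hg]
        exact Field.toIsField W.functionField
      exact IsLocalRing.eq_maximalIdeal
        (Ideal.Quotient.maximal_of_isField _
          ((RingHom.quotientKerEquivOfSurjective (ι.stalkMap_surjective (pW t))).toMulEquiv.isField hf))
    have hker : RingHom.ker (j.stalkMap t).hom =
        (IsLocalRing.maximalIdeal (Y.presheaf.stalk (q2 (j t)))).map (q2.stalkMap (j t)).hom := by
      rw [ker_stalkMap_base sqE]
      refine congrArg (Ideal.map _) ?_
      show Groth.L20.SeeNormal.sI ι.ker (q2 (j t)) = IsLocalRing.maximalIdeal (Y.presheaf.stalk (q2 (j t)))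
      rw [hq, hη]
    rw [← Groth.L22.ExtProd.length_of_surjective (j.stalkMap t).hom (j.stalkMap_surjective t) _
        (hker.le.trans le_sup_right),
      Ideal.map_sup, ← hker, (Ideal.map_eq_bot_iff_le_ker _).2 le_rfl, sup_bot_eq, Ideal.map_map,
      Groth.L22.Cyc.mult, Groth.L22.Cyc.fibIdeal, Scheme.Hom.stalkMap_comp]
    rfl
  by_cases hd : δP (j t) = δX (q1 (j t)) + δY (q2 (j t))
  · rw [if_pos ⟨hd, hqw⟩, hlen]
    rfl
  · rw [if_neg fun h => hd h.1, Groth.L22.Cyc.mult_eq_top fun h => hd ?_]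
    · simp
    · have h' : δP (j t) = δX ((j ≫ q1) t) + δY (ι (genericPoint W)) := hsh' t h
      rw [hqw, ← hw]
      rw [Scheme.Hom.comp_apply] at h'
      exact h'
where
  ker_stalkMap_base {W E : Scheme.{u}} {ι : W ⟶ Y} [IsClosedImmersion ι] {j : E ⟶ P} [IsClosedImmersion j]
      {pW : E ⟶ W} (sqE : IsPullback j pW q2 ι) {t : E} :
      RingHom.ker (j.stalkMap t).hom =
        (Groth.L20.SeeNormal.sI ι.ker (q2 (j t))).map (q2.stalkMap (j t)).hom := by
    have hk : j.ker = ι.ker.comap q2 := by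
      rw [← sqE.isoPullback_hom_fst, Scheme.Hom.ker_comp_of_isIso, Scheme.IdealSheafData.ker_fst_of_isClosedImmersion ι q2]
    rw [Groth.L20.Infinitesimal.ker_stalkMap, hk]
    exact Groth.L20.SeeNormal.sI_comap _ _ _

include sq hX hY hP in
/-- Exterior products exist. -/
theorem exists_prod [IsLocallyNoetherian P] (α : AlgebraicCycle X ℤ) (β : AlgebraicCycle Y ℤ) :
    ∃ ζ : AlgebraicCycle P ℤ, ⇑ζ = prodVal q1 q2 δX δY δP ⇑α ⇑β := by
  classical
  refine Groth.L22.C1.exists_cycle _ fun z => ?_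
  obtain ⟨V, hV, hzV, -⟩ := exists_isAffineOpen_mem_and_subset (x := z) (U := ⊤) trivial
  obtain ⟨V', hV', hVV', hfin⟩ := exists_finite_image α q1 hV
  haveI : Finite {x : X // x ∈ V' ∧ α x ≠ 0} := hfin.to_subtype
  let G : {x : X // x ∈ V' ∧ α x ≠ 0} → AlgebraicCycle P ℤ := fun x => by
    let ι := Groth.L22.Cyc.clι x.1
    haveI : IsLocallyNoetherian (pullback q1 ι) := LocallyOfFiniteType.isLocallyNoetherian (pullback.fst q1 ι)
    exact pushC (pullback.fst q1 ι) (fun t => δP (pullback.fst q1 ι t)) δP (pullC (pullback.fst q1 ι ≫ q2)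
        (shift_piece sq.flip hY hX (by rw [← sq.w]; exact hP) (IsPullback.of_hasPullback q1 ι)) β)
  refine ⟨V, hzV, (Set.finite_iUnion fun x => ?_ : (⋃ x, (V : Set P) ∩ Function.support ⇑(G x)).Finite).subset ?_⟩
  · exact (G x).locallyFiniteSupport.finite_inter_support_of_isCompact hV.isCompact
  · rintro t ⟨ht, htV⟩
    rw [Function.mem_support, prodVal] at ht
    split_ifs at ht with hd
    swap; · exact absurd rfl ht
    obtain ⟨h12, hl⟩ := mul_ne_zero_iff.1 ht
    obtain ⟨h1, h2⟩ := mul_ne_zero_iff.1 h12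
    refine Set.mem_iUnion.2 ⟨⟨q1 t, hVV' ⟨t, htV, rfl⟩, h1⟩, htV, ?_⟩
    haveI : IsLocallyNoetherian (pullback q1 (Groth.L22.Cyc.clι (q1 t))) :=
      LocallyOfFiniteType.isLocallyNoetherian (pullback.fst q1 _)
    rw [Function.mem_support, point_formula sq.flip hY hX (by rw [← sq.w]; exact hP)
      (IsPullback.of_hasPullback q1 (Groth.L22.Cyc.clι (q1 t))) (q1 t) (Groth.L22.Cyc.clι_genericPoint _),
      if_pos ⟨hd.trans (add_comm _ _), rfl⟩]
    refine mul_ne_zero h2 ?_
    unfold lenSup at hl ⊢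
    rw [sup_comm]
    exact hl
where
  exists_finite_image {X P : Scheme.{u}} (α : AlgebraicCycle X ℤ) (q : P ⟶ X) {V : P.Opens} (hV : IsAffineOpen V) :
      ∃ V' : Set X, IsOpen V' ∧ q '' V ⊆ V' ∧ {x : X | x ∈ V' ∧ α x ≠ 0}.Finite := by
    have hK := hV.isCompact.image q.continuous
    choose U hU hxU _hle using fun x : X => exists_isAffineOpen_mem_and_subset (X := X) (x := x) (U := ⊤) trivial
    obtain ⟨T, hT⟩ := hK.elim_finite_subcover (fun x => (U x : Set X)) (fun x => (U x).2)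
      fun x _ => Set.mem_iUnion.2 ⟨x, hxU x⟩
    refine ⟨⋃ i ∈ T, (U i : Set X), isOpen_biUnion fun i _ => (U i).2, hT,
      (T.finite_toSet.biUnion fun i _ => α.locallyFiniteSupport.finite_inter_support_of_isCompact (hU i).isCompact).subset ?_⟩
    rintro x ⟨hx, hne⟩
    obtain ⟨i, hi, hxi⟩ := Set.mem_iUnion₂.1 hx
    exact Set.mem_biUnion hi ⟨hxi, hne⟩

theorem prodVal_mem {r s : ℤ} {α : AlgebraicCycle X ℤ} {β : AlgebraicCycle Y ℤ} (hα : α ∈ Cyc.Zk X δX r)
    (hβ : β ∈ Cyc.Zk Y δY s) {ζ : AlgebraicCycle P ℤ} (hζ : ⇑ζ = prodVal q1 q2 δX δY δP ⇑α ⇑β) :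
    ζ ∈ Cyc.Zk P δP (r + s) := fun z hz => by
  rw [hζ, prodVal]
  split_ifs with h
  · by_cases h1 : δX (q1 z) = r
    · rw [hβ _ fun h2 => hz (by rw [h, h1, h2]), mul_zero, zero_mul]
    · rw [hα _ h1, zero_mul, zero_mul]
  · rfl

include sq hX hY hP in
/-- Pushing an exterior product to the second factor multiplies by the degree. -/
theorem map_prod_snd [IsProper f] [IsLocallyNoetherian P] {r : ℤ} (α : AlgebraicCycle X ℤ) (hα : α ∈ Cyc.Zk X δX r)
    (β : AlgebraicCycle Y ℤ)
    (ζ : AlgebraicCycle P ℤ) (hζ : ⇑ζ = prodVal q1 q2 δX δY δP ⇑α ⇑β) :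
    haveI : IsProper q2 := MorphismProperty.of_isPullback sq ‹IsProper f›
    AlgebraicCycle.map q2 δP δY ζ = ChowOps.deg f δX α • β := by
  haveI : IsProper q2 := MorphismProperty.of_isPullback sq ‹IsProper f›
  have hk := Groth.L22.SymCorr.isSetup_field K
  haveI : LocallyOfFiniteType q1 := MorphismProperty.of_isPullback sq.flip ‹LocallyOfFiniteType g›
  have hq2 : Cyc.DeltaCompat q2 δP δY := Groth.L22.Bundle.deltaCompat_cancel q2 g (sq.w ▸ hP) hY
  refine Function.locallyFinsuppWithin.ext fun y => ?_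
  rw [Function.locallyFinsuppWithin.coe_zsmul, Pi.smul_apply, smul_eq_mul]
  by_cases hy : β y = 0
  · rw [hy, mul_zero]
    refine finsum_mem_eq_zero_of_forall_eq_zero fun z hz => ?_
    rw [hζ, prodVal, show q2 z = y from hz, hy, mul_zero, zero_mul, ite_self, zero_mul]
  /- the part over `y` -/
  let W := Groth.L22.Cyc.clSub y
  let ι : W ⟶ Y := Groth.L22.Cyc.clι y
  haveI : IsLocallyNoetherian Y := LocallyOfFiniteType.isLocallyNoetherian g
  haveI : IsLocallyNoetherian W := Groth.L22.Cyc.isLocallyNoetherian_clSub y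
  let E := pullback f (ι ≫ g)
  let a : E ⟶ X := pullback.fst f (ι ≫ g)
  let b : E ⟶ W := pullback.snd f (ι ≫ g)
  let j : E ⟶ P := sq.lift a (b ≫ ι) (by rw [pullback.condition, Category.assoc])
  have hj1 : j ≫ q1 = a := sq.lift_fst _ _ _
  have hj2 : j ≫ q2 = b ≫ ι := sq.lift_snd _ _ _
  have sqE : IsPullback j b q2 ι := by
    refine (IsPullback.of_bot ?_ hj2.symm sq.flip).flip
    rw [hj1]
    exact (IsPullback.of_hasPullback f (ι ≫ g)).flip
  haveI : IsClosedImmersion j := MorphismProperty.of_isPullback sqE.flip (inferInstanceAs (IsClosedImmersion ι))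
  haveI : IsLocallyNoetherian E := LocallyOfFiniteType.isLocallyNoetherian b
  have hιy : ι (genericPoint W) = y := Groth.L22.Cyc.clι_genericPoint y
  have hsh : Shift (j ≫ q1) (fun t => δP (j t)) δX (δY y) := hιy ▸ shift_piece sq hX hY hP sqE
  let A := pullC (j ≫ q1) hsh α
  let G := pushC j (fun t => δP (j t)) δP A
  have hG : ∀ z, q2 z = y → ζ z = β y * G z := fun z hz => by
    rw [hζ, prodVal, point_formula sq hX hY hP sqE y hιy hsh, hz]
    simp only [and_true]
    split_ifs <;> ring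
  have h1 : AlgebraicCycle.map q2 δP δY ζ y = β y * AlgebraicCycle.map q2 δP δY G y := by
    show (∑ᶠ z ∈ q2 ⁻¹' {y}, ζ z * ((AlgebraicCycle.mapCoeff q2 δP δY z : ℕ) : ℤ)) =
      β y * ∑ᶠ z ∈ q2 ⁻¹' {y}, G z * ((AlgebraicCycle.mapCoeff q2 δP δY z : ℕ) : ℤ)
    rw [mul_finsum_mem]
    exact finsum_mem_congr rfl fun z hz => by rw [hG z hz, mul_assoc]
  rw [h1, mul_comm (ChowOps.deg f δX α)]
  congr 1
  /- transport along the closed immersion -/
  have hb : Cyc.DeltaCompat b (fun t => δP (j t)) fun t => δY (ι t) :=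
    Groth.L22.Cyc.deltaCompat_square (q := b) (i := j) (j := ι) (p := q2) hq2 hj2.symm
  have hsP : Cyc.IsSetup P δP := Groth.L22.Chern.setup_of_compat (q1 ≫ f) hk hP
  have hsY : Cyc.IsSetup Y δY := Groth.L22.Chern.setup_of_compat g hk hY
  have hsE : Cyc.IsSetup E fun t => δP (j t) := Groth.L22.C1.isSetup_closedImmersion j hsP
  have hsW : Cyc.IsSetup W fun t => δY (ι t) := Groth.L22.C1.isSetup_closedImmersion ι hsY
  have hcj : Cyc.DeltaCompat j (fun t => δP (j t)) δP := Groth.L22.C1.deltaCompat_closedImmersion j δP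
  have hcι : Cyc.DeltaCompat ι (fun t => δY (ι t)) δY := Groth.L22.C1.deltaCompat_closedImmersion ι δY
  haveI : IsProper b := inferInstance
  have hAm : ∀ (B : AlgebraicCycle E ℤ) (k : ℤ), B ∈ Cyc.Zk E (fun t => δP (j t)) k →
      AlgebraicCycle.map q2 δP δY (AlgebraicCycle.map j (fun t => δP (j t)) δP B) =
        AlgebraicCycle.map ι (fun t => δY (ι t)) δY (AlgebraicCycle.map b (fun t => δP (j t)) (fun t => δY (ι t)) B) :=
    fun B k hB => by
      rw [Groth.Agent.S1859.result E P Y _ _ _ hsE hsP hsY j q2 hcj hq2 k B hB,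
        Groth.Agent.S1859.result E W Y _ _ _ hsE hsW hsY b ι hb hcι k B hB]
      exact Groth.L16.BivarOps.map_congr hj2 B
  have h2 : AlgebraicCycle.map q2 δP δY G y =
      AlgebraicCycle.map b (fun t => δP (j t)) (fun t => δY (ι t)) A (genericPoint W) := by
    show AlgebraicCycle.map q2 δP δY (AlgebraicCycle.map j (fun t => δP (j t)) δP A) y = _
    rw [hAm A (r + δY y) (pullC_mem (j ≫ q1) hsh hα)]
    exact (congrArg _ hιy.symm).trans (Groth.L22.C1.map_apply_closedImmersion ι δY _ _)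
  rw [h2]
  haveI : Flat (ι ≫ g) := Groth.L07.SyntOverField.flat_over_field (ι ≫ g)
  haveI : IsLocallyNoetherian (Spec (CommRingCat.of K)) := inferInstance
  have hcW : ∀ x, FibGen (ι ≫ g) x → δY (ι x) = (0 : ℤ) + δY y := fun x hx => by
    rw [← hx (genericPoint W) (Subsingleton.elim (α := PrimeSpectrum K) _ _) (genericPoint_specializes _), hιy,
      zero_add]
  have key := Groth.L22.Cyc.map_pullFun_eq (f := f) (p := ι ≫ g) (δ := fun _ => (0 : ℤ)) (δ' := fun t => δY (ι t))
    (δY := δX) (δY' := fun t => δP (j t)) hsW.2.2 hX hb (c := δY y) hcW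
    (fun t ht => by
      have h := hsh t (by rwa [hj1])
      rw [Scheme.Hom.comp_apply, ← Scheme.Hom.comp_apply, hj1] at h
      exact h) α A (by
      rw [pullC_coe]
      funext t
      simp only [Cyc.pullFun]
      rw [hj1])
  rw [← key, Groth.L22.Cyc.pullFun_eq' (ι ≫ g) (δY := fun _ => (0 : ℤ)) hcW]
  have hmult : Groth.L22.Cyc.mult (ι ≫ g) (genericPoint W) = 1 := by
    rw [Groth.L22.Cyc.mult]
    letI : Field (W.presheaf.stalk (genericPoint W)) := inferInstanceAs (Field W.functionField)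
    have h0 : Groth.L22.Cyc.fibIdeal (ι ≫ g) (genericPoint W) = ⊥ :=
      le_bot_iff.1 ((Groth.L22.Cyc.fibIdeal_le _ _).trans (le_of_eq IsLocalRing.maximalIdeal_eq_bot))
    rw [h0, Module.length_eq_one_iff, isSimpleModule_iff_isCoatom]
    exact Ideal.isMaximal_def.1 (IsLocalRing.maximalIdeal_eq_bot (R := ↑(W.presheaf.stalk (genericPoint W))) ▸
      IsLocalRing.maximalIdeal.isMaximal _)
  show AlgebraicCycle.map f δX (fun _ => (0 : ℤ)) α _ * ((Groth.L22.Cyc.mult (ι ≫ g) (genericPoint W)).toNat : ℤ) = _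
  rw [hmult, ENat.toNat_one, Nat.cast_one, mul_one]
  exact congrArg _ (Subsingleton.elim (α := PrimeSpectrum K) _ _)

end Groth.L22.Kron
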