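import Groth.Agent.L22.Kron.OpProd

/-!
Operational classes through graphs.
-/

set_option autoImplicit false
set_option linter.style.haveILetI false
set_option linter.unusedSectionVars false
set_option maxHeartbeats 800000
set_option maxSynthPendingDepth 3
set_option backward.isDefEq.respectTransparency.types false
set_option backward.isDefEq.respectTransparency false

universe u

open CategoryTheory CategoryTheory.Limits AlgebraicGeometry TopologicalSpace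
open Groth.L16.BivarOps

noncomputable section

namespace Groth.L22.Kron

variable {K : Type u} [Field K] {X Y P : Scheme.{u}} {pX : X ⟶ Spec (CommRingCat.of K)} [IsProper pX]
  {pY : Y ⟶ Spec (CommRingCat.of K)} [LocallyOfFiniteType pY] {q1 : P ⟶ X} {q2 : P ⟶ Y}
  (sq : IsPullback q1 q2 pX pY) {δX : X → ℤ} {δY : Y → ℤ} {δP : P → ℤ}
  (hδX : Cyc.DeltaCompat pX δX fun _ => 0) (hδY : Cyc.DeltaCompat pY δY fun _ => 0)
  (hδP : Cyc.DeltaCompat q1 δP δX) [hq1 : LocallyOfFiniteType q1] [IsProper q2]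
  (hsY : Cyc.IsSetup Y δY) (hsP : Cyc.IsSetup P δP) (hq2 : Cyc.DeltaCompat q2 δP δY)

/-- The action of a class on a test scheme through the graph of its structure morphism. -/
theorem op_eq_graph {f : Y ⟶ X} (hfl : LocallyOfFiniteType f) (hfδ : Cyc.DeltaCompat f δY δX) (γ : Y ⟶ P) [IsProper γ]
    (hγ₁ : γ ≫ q1 = f) (hγ₂ : γ ≫ q2 = 𝟙 Y) (hγδ : Cyc.DeltaCompat γ δY δP) {p : ℤ} (c : Bivar.OpCl p X δX) (m : ℤ)
    (z : ChowOps.CH Y δY m) :
    c.op ⟨Y, f, hfl, δY, hfδ⟩ m z =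
      pushOp q2 hsP hsY hq2 (m - p) (c.op ⟨P, q1, hq1, δP, hδP⟩ m (pushOp γ hsY hsP hγδ m z)) := by
  have h := push_apply (h := γ) (h' := γ) hsY hsP hγδ hsY hsP hγδ
    (c.push ⟨P, q1, hq1, δP, hδP⟩ ⟨Y, f, hfl, δY, hfδ⟩ γ hγ₁ m) z
  rw [h, pushOp_comp γ q2 (𝟙 Y) hγ₂ hsY hsP hsY hγδ hq2 (Bivar.deltaCompat_id δY), pushOp_id]

include sq hδX hδY hδP in
/-- An operational class followed by the second projection on the class of an exterior product. -/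
theorem snd_op_prod {p a b m : ℤ} (c : Bivar.OpCl p X δX) (u : AlgebraicCycle X ℤ) (hu : u ∈ Cyc.Zk X δX a)
    (v : AlgebraicCycle Y ℤ) (hv : v ∈ Cyc.Zk Y δY b) (hm : a + b = m) (β : AlgebraicCycle X ℤ)
    (hβ : β ∈ Cyc.Zk X δX (a - p)) (hcβ : c.cap a (ChowOps.cl u hu) = ChowOps.cl β hβ) (ζ : AlgebraicCycle P ℤ)
    (hζ : ⇑ζ = prodVal q1 q2 δX δY δP ⇑u ⇑v) (hζm : ζ ∈ Cyc.Zk P δP m) :
    ∃ h : ChowOps.deg pX δX β • v ∈ Cyc.Zk Y δY (m - p),
      pushOp q2 hsP hsY hq2 (m - p) (c.op ⟨P, q1, hq1, δP, hδP⟩ m (ChowOps.cl ζ hζm)) = ChowOps.cl _ h := by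
  haveI := hsP.1
  have hP : Cyc.DeltaCompat (q1 ≫ pX) δP fun _ => 0 := Bivar.deltaCompat_comp q1 pX δP δX _ hδP hδX
  obtain ⟨ζ', hζ'⟩ := exists_prod sq hδX hδY hP β v
  have hm' : ζ' ∈ Cyc.Zk P δP (m - p) := by
    rw [show m - p = a - p + b by omega]
    exact prodVal_mem hβ hv hζ'
  have hmap := map_prod_snd sq hδX hδY hP β hβ v ζ' hζ'
  refine ⟨hmap ▸ Bivar.cycMap_mem_Zk q2 δP δY (m - p) hm', ?_⟩
  rw [op_prod sq hδX hδY hδP c u hu v hv β hβ hcβ ζ hζ ζ' hζ' hζm hm' hm, pushOp_cl]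
  exact Bivar.cl_congr hmap _ _

end Groth.L22.Kron
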