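import Groth.Agent.L22.Kron.Nat
import Groth.Agent.L22.Chern.CurveClass
import Groth.Agent.L22.Cyc.Limit

/-!
Functionals on Chow groups of products under the Künneth property.
-/

set_option autoImplicit false
set_option linter.style.haveILetI false
set_option linter.unusedSectionVars false
set_option maxHeartbeats 800000
set_option maxSynthPendingDepth 3
set_option backward.isDefEq.respectTransparency.types false
set_option backward.isDefEq.respectTransparency false

universe u

open CategoryTheory CategoryTheory.Limits AlgebraicGeometry TopologicalSpace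
open scoped TensorProduct

noncomputable section

namespace Groth.L22.Kron

/-- The Künneth property of a product in each degree. -/
def Kun {P X Y : Scheme.{u}} (q1 : P ⟶ X) (q2 : P ⟶ Y) (δX : X → ℤ) (δY : Y → ℤ) (δP : P → ℤ) : Prop :=
  ∃ κ : ∀ a m : ℤ, ChowOps.CH X δX a →ₗ[ℤ] ChowOps.CH Y δY (m - a) →ₗ[ℤ] ChowOps.CH P δP m,
    (∀ (a m : ℤ) (α : AlgebraicCycle X ℤ) (hα : α ∈ Cyc.Zk X δX a) (β : AlgebraicCycle Y ℤ)
      (hβ : β ∈ Cyc.Zk Y δY (m - a)) (ζ : AlgebraicCycle P ℤ) (hζ : ζ ∈ Cyc.Zk P δP m),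
      (∀ t : P, ζ t = prodVal q1 q2 δX δY δP ⇑α ⇑β t) →
      κ a m (ChowOps.cl α hα) (ChowOps.cl β hβ) = ChowOps.cl ζ hζ) ∧
    ∀ m : ℤ, Function.Bijective
      (DirectSum.toModule ℤ ℤ (ChowOps.CH P δP m) (fun a : ℤ => TensorProduct.lift (κ a m)))

variable {K : Type u} [Field K] {X P Y : Scheme.{u}} {pX : X ⟶ Spec (CommRingCat.of K)} [IsProper pX]
  {pY : Y ⟶ Spec (CommRingCat.of K)} [LocallyOfFiniteType pY] {q1 : P ⟶ X} {q2 : P ⟶ Y}
  (sq : IsPullback q1 q2 pX pY) {δX : X → ℤ} {δY : Y → ℤ} {δP : P → ℤ} (hδX : Cyc.DeltaCompat pX δX fun _ => 0)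
  (hδY : Cyc.DeltaCompat pY δY fun _ => 0) (hδP : Cyc.DeltaCompat q1 δP δX) (hK : Kun q1 q2 δX δY δP)

theorem cl_sum {Z : Scheme.{u}} {δ : Z → ℤ} {k : ℤ} {ι : Type*} (s : Finset ι) (F : ι → AlgebraicCycle Z ℤ)
    (h : ∀ i, F i ∈ Cyc.Zk Z δ k) {G : AlgebraicCycle Z ℤ} {H : G ∈ Cyc.Zk Z δ k} (e : G = ∑ i ∈ s, F i) :
    ChowOps.cl G H = ∑ i ∈ s, ChowOps.cl (F i) (h i) := by
  subst e
  show (ChowOps.clHom Z δ k) ⟨∑ i ∈ s, F i, H⟩ = ∑ i ∈ s, (ChowOps.clHom Z δ k) ⟨F i, h i⟩
  rw [← map_sum]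
  congr 1
  exact Subtype.ext (by rw [AddSubgroup.val_finset_sum])

include sq hδX hδY hδP hK in
open Classical in
/-- Homomorphisms out of the Chow group of the product are determined on products with points. -/
theorem hom_ext_gen {A : Type*} [AddCommGroup A] {m : ℤ} (F G : ChowOps.CH P δP m →+ A)
    (h : ∀ (x : X) (v : AlgebraicCycle Y ℤ) (_ : v ∈ Cyc.Zk Y δY (m - δX x)) (ζ : AlgebraicCycle P ℤ)
      (_ : ⇑ζ = prodVal q1 q2 δX δY δP ⇑(Function.locallyFinsuppWithin.single x (1 : ℤ) : AlgebraicCycle X ℤ) ⇑v)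
      (hζm : ζ ∈ Cyc.Zk P δP m), F (ChowOps.cl ζ hζm) = G (ChowOps.cl ζ hζm)) :
    F = G := by
  obtain ⟨κ, hκ, hb⟩ := hK
  have hP : Cyc.DeltaCompat (q1 ≫ pX) δP fun _ => 0 := Bivar.deltaCompat_comp q1 pX δP δX _ hδP hδX
  haveI : LocallyOfFiniteType q1 := MorphismProperty.of_isPullback sq.flip ‹LocallyOfFiniteType pY›
  haveI : IsLocallyNoetherian P := LocallyOfFiniteType.isLocallyNoetherian (q1 ≫ pX)
  haveI : IsLocallyNoetherian X := LocallyOfFiniteType.isLocallyNoetherian pX
  haveI : CompactSpace X := QuasiCompact.compactSpace_of_compactSpace pX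
  refine AddMonoidHom.ext fun z => ?_
  obtain ⟨w, rfl⟩ := (hb m).2 z
  induction w using DirectSum.induction_on with
  | zero => simp only [map_zero]
  | add x y hx hy => simp only [map_add, hx, hy]
  | of a t =>
    rw [← DirectSum.lof_eq_of ℤ, DirectSum.toModule_lof]
    induction t using TensorProduct.induction_on with
    | zero => simp only [map_zero]
    | add x y hx hy => simp only [map_add, hx, hy]
    | tmul x y =>
      rw [TensorProduct.lift.tmul]
      obtain ⟨u, hu, rfl⟩ := Bivar.exists_rep x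
      obtain ⟨v, hv, rfl⟩ := Bivar.exists_rep y
      let B := (Groth.L22.Cyc.finite_support u).toFinset
      have hm1 : ∀ w, (if δX w = a then u w • (Function.locallyFinsuppWithin.single w (1 : ℤ) : AlgebraicCycle X ℤ)
          else 0) ∈ Cyc.Zk X δX a := fun w => by
        split_ifs with hw
        · exact (ChowOps.zk X δX a).zsmul_mem (fun y hy => by
            show (Function.locallyFinsuppWithin.single w (1 : ℤ)) y = 0
            rw [Function.locallyFinsuppWithin.single_apply]
            exact if_neg fun e => hy (by rw [e]; exact hw)) _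
        · exact (ChowOps.zk X δX a).zero_mem
      have e : u = ∑ w ∈ B, (if δX w = a then u w • (Function.locallyFinsuppWithin.single w (1 : ℤ) : AlgebraicCycle X ℤ)
          else 0) := by
        rw [Finset.sum_congr rfl fun w hw => if_pos (by_contra fun h =>
          (Groth.L22.Cyc.finite_support u).mem_toFinset.1 hw (hu w h))]
        refine Function.locallyFinsuppWithin.ext fun y => ?_
        simp only [Function.locallyFinsuppWithin.coe_sum, Finset.sum_apply, Function.locallyFinsuppWithin.coe_zsmul,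
          Pi.smul_apply, Function.locallyFinsuppWithin.single_apply, smul_eq_mul, mul_ite, mul_one, mul_zero]
        rw [Finset.sum_ite_eq]
        split_ifs with hy
        · rfl
        · by_contra h
          exact hy ((Groth.L22.Cyc.finite_support u).mem_toFinset.2 h)
      rw [cl_sum B _ hm1 (H := hu) e]
      simp only [map_sum, LinearMap.sum_apply]
      refine Finset.sum_congr rfl fun w _ => ?_
      by_cases hw : δX w = a
      · subst hw
        have hs : (Function.locallyFinsuppWithin.single w (1 : ℤ) : AlgebraicCycle X ℤ) ∈ Cyc.Zk X δX (δX w) :=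
          fun y hy => by
            show (Function.locallyFinsuppWithin.single w (1 : ℤ)) y = 0
            rw [Function.locallyFinsuppWithin.single_apply]
            exact if_neg fun e => hy (by rw [e])
        have hval : ChowOps.cl _ (hm1 w) = u w • ChowOps.cl _ hs :=
          (Bivar.cl_congr (if_pos rfl) (hm1 w) ((ChowOps.zk X δX _).zsmul_mem hs _)).trans rfl
        obtain ⟨ζ, hζ⟩ := exists_prod sq hδX hδY hP (Function.locallyFinsuppWithin.single w (1 : ℤ)) v
        have hζm : ζ ∈ Cyc.Zk P δP m := by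
          have := prodVal_mem hs hv hζ
          rwa [show δX w + (m - δX w) = m by ring] at this
        rw [hval, map_zsmul, LinearMap.smul_apply, map_zsmul, map_zsmul, hκ _ m _ hs v hv ζ hζm (congrFun hζ),
          h w v hv ζ hζ hζm]
      · rw [(Bivar.cl_congr (if_neg hw) (hm1 w) (ChowOps.zk X δX a).zero_mem).trans Bivar.cl_zero, map_zero,
          LinearMap.zero_apply, map_zero, map_zero]

include hK in
/-- Contraction of the product with a functional on the first factor. -/
theorem exists_psi (p m : ℤ) (φ : ChowOps.CH X δX p →+ ℤ) :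
    ∃ Ψ : ChowOps.CH P δP m →+ ChowOps.CH Y δY (m - p), ∀ (a b : ℤ) (u : AlgebraicCycle X ℤ)
      (hu : u ∈ Cyc.Zk X δX a) (v : AlgebraicCycle Y ℤ) (hv : v ∈ Cyc.Zk Y δY b) (ζ : AlgebraicCycle P ℤ)
      (_ : ⇑ζ = prodVal q1 q2 δX δY δP ⇑u ⇑v) (hζm : ζ ∈ Cyc.Zk P δP m) (_ : a + b = m),
      (∀ (ha : a = p) (hv' : v ∈ Cyc.Zk Y δY (m - p)),
        Ψ (ChowOps.cl ζ hζm) = φ (ChowOps.cl u (ha ▸ hu)) • ChowOps.cl v hv') ∧
      (a ≠ p → Ψ (ChowOps.cl ζ hζm) = 0) := by
  obtain ⟨κ, hκ, hb⟩ := hK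
  let e := LinearEquiv.ofBijective _ (hb m)
  let L : ∀ a : ℤ, ChowOps.CH X δX a ⊗[ℤ] ChowOps.CH Y δY (m - a) →ₗ[ℤ] ChowOps.CH Y δY (m - p) := fun a =>
    if h : a = p then TensorProduct.lift
      (LinearMap.mk₂ ℤ (fun x y => φ (Bivar.chCast X δX h x) • Bivar.chCast Y δY (show m - a = m - p by rw [h]) y)
        (fun x x' y => by simp only [map_add, add_smul])
        (fun c x y => by simp only [map_zsmul, smul_eq_mul, mul_smul])
        (fun x y y' => by simp only [map_add, smul_add])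
        (fun c x y => by simp only [map_zsmul]; exact smul_comm _ _ _))
    else 0
  refine ⟨((DirectSum.toModule ℤ ℤ _ L).comp e.symm.toLinearMap).toAddMonoidHom, ?_⟩
  intro a b u hu v hv ζ hζ hζm hab
  obtain rfl : b = m - a := by omega
  have hsymm : e.symm (ChowOps.cl ζ hζm) =
      DirectSum.lof ℤ ℤ (fun a => ChowOps.CH X δX a ⊗[ℤ] ChowOps.CH Y δY (m - a)) a
        (ChowOps.cl u hu ⊗ₜ[ℤ] ChowOps.cl v hv) := by
    rw [LinearEquiv.symm_apply_eq, LinearEquiv.ofBijective_apply, DirectSum.toModule_lof, TensorProduct.lift.tmul]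
    exact (hκ a m u hu v hv ζ hζm (congrFun hζ)).symm
  have hval : ((DirectSum.toModule ℤ ℤ _ L).comp e.symm.toLinearMap).toAddMonoidHom (ChowOps.cl ζ hζm) =
      L a (ChowOps.cl u hu ⊗ₜ[ℤ] ChowOps.cl v hv) := by
    show (DirectSum.toModule ℤ ℤ _ L) (e.symm (ChowOps.cl ζ hζm)) = _
    rw [hsymm, DirectSum.toModule_lof]
  refine ⟨fun ha hv' => ?_, fun ha => ?_⟩
  · subst ha
    rw [hval]
    simp only [L, dif_pos, TensorProduct.lift.tmul, LinearMap.mk₂_apply, Bivar.chCast_rfl, AddEquiv.refl_apply]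
  · rw [hval]
    simp only [L, dif_neg ha, LinearMap.zero_apply]

end Groth.L22.Kron
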