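import Groth.Agent.L22.Kron.Functional
import Groth.Agent.L16.Bivar.Shapes

/-!
Kronecker duality for operational classes under the Künneth property.
-/

set_option autoImplicit false
set_option linter.style.haveILetI false
set_option linter.unusedSectionVars false
set_option maxHeartbeats 1600000
set_option maxSynthPendingDepth 3
set_option backward.isDefEq.respectTransparency.types false
set_option backward.isDefEq.respectTransparency false

universe u

open CategoryTheory CategoryTheory.Limits AlgebraicGeometry TopologicalSpace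
open Groth.L16.BivarOps

noncomputable section

namespace Groth.L22.Kron

variable {K : Type u} [Field K] {X : Scheme.{u}} (pX : X ⟶ Spec (CommRingCat.of K)) [IsProper pX]
  {δX : X → ℤ} (hδX : Cyc.DeltaCompat pX δX fun _ => 0)

theorem deg_eq_zero (v : AlgebraicCycle X ℤ) {b : ℤ} (hv : v ∈ Cyc.Zk X δX b) (hb : b ≠ 0) :
    ChowOps.deg pX δX v = 0 :=
  Bivar.cycMap_mem_Zk pX δX (fun _ => 0) b hv (IsLocalRing.closedPoint K) (Ne.symm hb)

theorem gysinOK₁_of_gysinOK {S D : Scheme.{u}} {δS : S → ℤ} {δD : D → ℤ} {i : D ⟶ S} {L : S.Modules}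
    {σ : L.presheaf.obj (Opposite.op ⊤)} {k l k₁ l₁ : ℤ} {φ : ChowOps.CH S δS k →+ ChowOps.CH S δS l}
    {ψ : ChowOps.CH D δD k₁ →+ ChowOps.CH D δD l₁} (h : Bivar.GysinOK δS δD δS δD i L σ i L σ φ ψ) :
    Bivar.GysinOK₁ δS δD i L σ φ ψ := fun α hα => by
  obtain ⟨β, hβ, e, H⟩ := h α hα
  exact ⟨β, hβ, e, fun w hw γ hγc hγ => H w hw γ hγc hγ w hw⟩

/-- The product of a test scheme with the base. -/
abbrev PS (s : Bivar.OSq X δX) : Scheme.{u} := pullback pX (s.g ≫ pX)

/-- The graph of a test scheme. -/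
def graph (s : Bivar.OSq X δX) : s.Y ⟶ PS pX s := pullback.lift s.g (𝟙 _) (by rw [Category.id_comp])

theorem graph_fst (s : Bivar.OSq X δX) : graph pX s ≫ pullback.fst pX (s.g ≫ pX) = s.g := pullback.lift_fst _ _ _

theorem graph_snd (s : Bivar.OSq X δX) : graph pX s ≫ pullback.snd pX (s.g ≫ pX) = 𝟙 _ := pullback.lift_snd _ _ _

instance (s : Bivar.OSq X δX) : IsClosedImmersion (graph pX s) := by
  haveI : IsClosedImmersion (graph pX s ≫ pullback.snd pX (s.g ≫ pX)) := by rw [graph_snd]; infer_instance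
  exact IsClosedImmersion.of_comp (graph pX s) (pullback.snd pX (s.g ≫ pX))

instance lftY (s : Bivar.OSq X δX) : LocallyOfFiniteType (s.g ≫ pX) := by haveI := s.lft; infer_instance

include hδX in
theorem hY (s : Bivar.OSq X δX) : Cyc.DeltaCompat (s.g ≫ pX) s.δ fun _ => 0 :=
  Bivar.deltaCompat_comp s.g pX s.δ δX _ s.compat hδX

include hδX in
theorem sX : Cyc.IsSetup X δX := Groth.L22.Chern.setup_of_compat pX (Groth.L22.SymCorr.isSetup_field K) hδX

include hδX in
theorem sY (s : Bivar.OSq X δX) : Cyc.IsSetup s.Y s.δ :=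
  Groth.L22.Chern.setup_of_compat (s.g ≫ pX) (Groth.L22.SymCorr.isSetup_field K) (hY pX hδX s)

/-- The dimension function of the product. -/
def δPS (s : Bivar.OSq X δX) : PS pX s → ℤ :=
  (Groth.L22.Cyc.exists_setup (pullback.fst pX (s.g ≫ pX)) (sX pX hδX)).choose

theorem sP (s : Bivar.OSq X δX) : Cyc.IsSetup (PS pX s) (δPS pX hδX s) :=
  (Groth.L22.Cyc.exists_setup (pullback.fst pX (s.g ≫ pX)) (sX pX hδX)).choose_spec.1

theorem hP (s : Bivar.OSq X δX) : Cyc.DeltaCompat (pullback.fst pX (s.g ≫ pX)) (δPS pX hδX s) δX :=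
  (Groth.L22.Cyc.exists_setup (pullback.fst pX (s.g ≫ pX)) (sX pX hδX)).choose_spec.2

theorem hq2 (s : Bivar.OSq X δX) : Cyc.DeltaCompat (pullback.snd pX (s.g ≫ pX)) (δPS pX hδX s) s.δ :=
  Groth.L22.Bundle.deltaCompat_cancel _ (s.g ≫ pX)
    ((pullback.condition (f := pX) (g := s.g ≫ pX)) ▸ Bivar.deltaCompat_comp _ pX _ δX _ (hP pX hδX s) hδX)
    (hY pX hδX s)

theorem hγ (s : Bivar.OSq X δX) : Cyc.DeltaCompat (graph pX s) s.δ (δPS pX hδX s) :=
  Groth.L22.Bundle.deltaCompat_cancel _ (pullback.fst pX (s.g ≫ pX)) ((graph_fst pX s).symm ▸ s.compat)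
    (hP pX hδX s)

variable (hK : ∀ s : Bivar.OSq X δX,
    Kun (pullback.fst pX (s.g ≫ pX)) (pullback.snd pX (s.g ≫ pX)) δX s.δ (δPS pX hδX s))
  (p : ℤ) (φ : ChowOps.CH X δX p →+ ℤ)

/-- The contraction on each product. -/
def psi (s : Bivar.OSq X δX) (m : ℤ) : ChowOps.CH (PS pX s) (δPS pX hδX s) m →+ ChowOps.CH s.Y s.δ (m - p) :=
  (exists_psi (hK s) p m φ).choose

theorem psi_spec (s : Bivar.OSq X δX) (m a b : ℤ) (u : AlgebraicCycle X ℤ)
    (hu : u ∈ Cyc.Zk X δX a) (v : AlgebraicCycle s.Y ℤ) (hv : v ∈ Cyc.Zk s.Y s.δ b)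
    (ζ : AlgebraicCycle (PS pX s) ℤ)
    (hζ : ⇑ζ = prodVal (pullback.fst pX (s.g ≫ pX)) (pullback.snd pX (s.g ≫ pX)) δX s.δ (δPS pX hδX s) ⇑u ⇑v)
    (hζm : ζ ∈ Cyc.Zk (PS pX s) (δPS pX hδX s) m) (hab : a + b = m) :
    (∀ (ha : a = p) (hv' : v ∈ Cyc.Zk s.Y s.δ (m - p)),
      psi pX hδX hK p φ s m (ChowOps.cl ζ hζm) = φ (ChowOps.cl u (ha ▸ hu)) • ChowOps.cl v hv') ∧
    (a ≠ p → psi pX hδX hK p φ s m (ChowOps.cl ζ hζm) = 0) :=
  (exists_psi (hK s) p m φ).choose_spec a b u hu v hv ζ hζ hζm hab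

/-- The operation defined by a functional. -/
def opHom (s : Bivar.OSq X δX) (m : ℤ) : ChowOps.CH s.Y s.δ m →+ ChowOps.CH s.Y s.δ (m - p) :=
  (psi pX hδX hK p φ s m).comp (pushOp (graph pX s) (sY pX hδX s) (sP pX hδX s) (hγ pX hδX s) m)

section Maps

variable {s t : Bivar.OSq X δX} (h : t.Y ⟶ s.Y) (w : h ≫ s.g = t.g)

/-- The map on products. -/
def mapP : PS pX t ⟶ PS pX s :=
  pullback.lift (pullback.fst pX (t.g ≫ pX)) (pullback.snd pX (t.g ≫ pX) ≫ h)
    (by rw [pullback.condition, Category.assoc, ← Category.assoc h, w])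

theorem mapP_fst : mapP pX h w ≫ pullback.fst pX (s.g ≫ pX) = pullback.fst pX (t.g ≫ pX) := pullback.lift_fst _ _ _

theorem mapP_snd : mapP pX h w ≫ pullback.snd pX (s.g ≫ pX) = pullback.snd pX (t.g ≫ pX) ≫ h := pullback.lift_snd _ _ _

open Classical in
theorem sqP : IsPullback (mapP pX h w) (pullback.snd pX (t.g ≫ pX)) (pullback.snd pX (s.g ≫ pX)) h :=
  isPullback_prod (IsPullback.of_hasPullback _ _) (IsPullback.of_hasPullback _ _) (mapP_fst pX h w) (mapP_snd pX h w)
    (by rw [← Category.assoc, w])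

theorem graph_mapP : graph pX t ≫ mapP pX h w = h ≫ graph pX s := by
  apply pullback.hom_ext
  · rw [Category.assoc, mapP_fst, graph_fst, Category.assoc, graph_fst, w]
  · rw [Category.assoc, mapP_snd, ← Category.assoc, graph_snd, Category.assoc, graph_snd, Category.id_comp,
      Category.comp_id]

theorem sqγ : IsPullback h (graph pX t) (graph pX s) (mapP pX h w) := by
  refine (IsPullback.of_right ?_ (graph_mapP pX h w) (sqP pX h w).flip).flip
  rw [graph_snd, graph_snd]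
  exact IsPullback.of_horiz_isIso ⟨by rw [Category.id_comp, Category.comp_id]⟩

include w in
theorem hδh : Cyc.DeltaCompat h t.δ s.δ :=
  Groth.L22.Bundle.deltaCompat_cancel h s.g (w.symm ▸ t.compat) s.compat

theorem hδmap : Cyc.DeltaCompat (mapP pX h w) (δPS pX hδX t) (δPS pX hδX s) :=
  Groth.L22.Bundle.deltaCompat_cancel _ (pullback.fst pX (s.g ≫ pX)) ((mapP_fst pX h w).symm ▸ hP pX hδX t)
    (hP pX hδX s)

end Maps

open Classical in
/-- The class of a functional. -/
def opClass : Bivar.OpCl p X δX where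
  op := opHom pX hδX hK p φ
  push s t h _ w k := by
    haveI : IsProper (mapP pX h w) := MorphismProperty.of_isPullback (sqP pX h w).flip ‹IsProper h›
    refine pushOK_of_apply (sY pX hδX t) (sY pX hδX s) (hδh h w) (sY pX hδX t) (sY pX hδX s) (hδh h w) fun z => ?_
    have key : (psi pX hδX hK p φ s k).comp
          (pushOp (mapP pX h w) (sP pX hδX t) (sP pX hδX s) (hδmap pX hδX h w) k) =
        (pushOp h (sY pX hδX t) (sY pX hδX s) (hδh h w) (k - p)).comp (psi pX hδX hK p φ t k) := by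
      refine hom_ext_gen (IsPullback.of_hasPullback _ _) hδX (hY pX hδX t) (hP pX hδX t) (hK t) _ _
        fun x v hv ζ hζ hζm => ?_
      haveI := (sP pX hδX s).1
      obtain ⟨ζ', hζ'⟩ := exists_prod (IsPullback.of_hasPullback pX (s.g ≫ pX)) hδX (hY pX hδX s)
        (Bivar.deltaCompat_comp _ pX _ δX _ (hP pX hδX s) hδX) (Function.locallyFinsuppWithin.single x (1 : ℤ))
        (AlgebraicCycle.map h t.δ s.δ v)
      have hx : (Function.locallyFinsuppWithin.single x (1 : ℤ) : AlgebraicCycle X ℤ) ∈ Cyc.Zk X δX (δX x) :=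
        fun y hy => by
          show (Function.locallyFinsuppWithin.single x (1 : ℤ)) y = 0
          rw [Function.locallyFinsuppWithin.single_apply]
          exact if_neg fun e => hy (by rw [e])
      have hv2 := Bivar.cycMap_mem_Zk h t.δ s.δ _ hv
      have hm' : ζ' ∈ Cyc.Zk (PS pX s) (δPS pX hδX s) k := by
        have := prodVal_mem hx hv2 hζ'
        rwa [show δX x + (k - δX x) = k by ring] at this
      simp only [AddMonoidHom.comp_apply]
      rw [push_gen (IsPullback.of_hasPullback _ _) (IsPullback.of_hasPullback _ _) hδX (hY pX hδX s) (hY pX hδX t)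
        (hP pX hδX s) (hP pX hδX t) (sY pX hδX s) (sY pX hδX t) (sP pX hδX s) (sP pX hδX t) (hδh h w)
        (mapP_fst pX h w) (mapP_snd pX h w) (hδmap pX hδX h w) (sqP pX h w) x
        (show δX x + (k - δX x) = k by ring) v hv ζ hζ hζm ζ' hζ' hm']
      obtain ⟨h1, h2⟩ := psi_spec pX hδX hK p φ t k _ _ _ hx v hv ζ hζ hζm (by ring)
      obtain ⟨g1, g2⟩ := psi_spec pX hδX hK p φ s k _ _ _ hx _ hv2 ζ' hζ' hm' (by ring)
      by_cases ha : δX x = p
      · rw [h1 ha (ha ▸ hv), g1 ha (ha ▸ hv2), map_zsmul, pushOp_cl]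
      · rw [h2 ha, g2 ha, map_zero]
    show psi pX hδX hK p φ s k (pushOp (graph pX s) _ _ _ k (pushOp h _ _ _ k z)) =
      pushOp h _ _ _ (k - p) (psi pX hδX hK p φ t k (pushOp (graph pX t) _ _ _ k z))
    rw [← AddMonoidHom.comp_apply (pushOp h _ _ _ (k - p)), ← key, AddMonoidHom.comp_apply]
    congr 1
    haveI : IsProper (h ≫ graph pX s) := inferInstance
    have hc := Bivar.deltaCompat_comp _ _ _ _ _ (hδh h w) (hγ pX hδX s)
    rw [pushOp_comp h (graph pX s) (h ≫ graph pX s) rfl (sY pX hδX t) (sY pX hδX s) (sP pX hδX s) (hδh h w)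
        (hγ pX hδX s) hc z,
      pushOp_comp (graph pX t) (mapP pX h w) (h ≫ graph pX s) (graph_mapP pX h w) (sY pX hδX t) (sP pX hδX t)
        (sP pX hδX s) (hγ pX hδX t) (hδmap pX hδX h w) hc z]
  pull s t h _ r hr w k := by
    haveI := t.lft
    haveI : LocallyOfFiniteType h := by
      haveI : LocallyOfFiniteType (h ≫ s.g) := by rw [w]; infer_instance
      exact locallyOfFiniteType_of_comp h s.g
    haveI : Flat (mapP pX h w) := MorphismProperty.of_isPullback (sqP pX h w).flip ‹Flat h›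
    haveI : LocallyOfFiniteType (mapP pX h w) :=
      MorphismProperty.of_isPullback (sqP pX h w).flip ‹LocallyOfFiniteType h›
    have hrP : Cyc.HasRelDim (mapP pX h w) r := Groth.L22.Cyc.hasRelDim_baseChange (sqP pX h w).flip hr
    have e : k - p + (r : ℤ) = k + r - p := by ring
    refine pullOK_of_apply hr hr (sY pX hδX t) (sY pX hδX s) (hδh h w) (sY pX hδX t) (sY pX hδX s) (hδh h w) e
      fun z => ?_
    have key : (psi pX hδX hK p φ t (k + r)).comp
          (pullOp (mapP pX h w) hrP (sP pX hδX t) (sP pX hδX s) (hδmap pX hδX h w) k) =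
        ((Bivar.chCast t.Y t.δ e).toAddMonoidHom.comp
          (pullOp h hr (sY pX hδX t) (sY pX hδX s) (hδh h w) (k - p))).comp (psi pX hδX hK p φ s k) := by
      refine hom_ext_gen (IsPullback.of_hasPullback _ _) hδX (hY pX hδX s) (hP pX hδX s) (hK s) _ _
        fun x v hv ζ hζ hζm => ?_
      haveI := (sP pX hδX t).1
      obtain ⟨v', hv'⟩ := exists_pullCycle h hr (sY pX hδX t) (hδh h w) v
      obtain ⟨ζ', hζ'⟩ := exists_prod (IsPullback.of_hasPullback pX (t.g ≫ pX)) hδX (hY pX hδX t)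
        (Bivar.deltaCompat_comp _ pX _ δX _ (hP pX hδX t) hδX) (Function.locallyFinsuppWithin.single x (1 : ℤ)) v'
      have hx : (Function.locallyFinsuppWithin.single x (1 : ℤ) : AlgebraicCycle X ℤ) ∈ Cyc.Zk X δX (δX x) :=
        fun y hy => by
          show (Function.locallyFinsuppWithin.single x (1 : ℤ)) y = 0
          rw [Function.locallyFinsuppWithin.single_apply]
          exact if_neg fun e => hy (by rw [e])
      have hv2 := Bivar.pullFun_mem_Zk h t.δ s.δ r _ hv v' hv'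
      have hm' : ζ' ∈ Cyc.Zk (PS pX t) (δPS pX hδX t) (k + r) := by
        have := prodVal_mem hx hv2 hζ'
        rwa [show δX x + (k - δX x + r) = k + r by ring] at this
      simp only [AddMonoidHom.comp_apply]
      rw [pull_gen (IsPullback.of_hasPullback _ _) (IsPullback.of_hasPullback _ _) hδX (hY pX hδX s) (hY pX hδX t)
        (hP pX hδX s) (hP pX hδX t) (sY pX hδX s) (sY pX hδX t) (sP pX hδX s) (sP pX hδX t) (hδh h w)
        (mapP_fst pX h w) (mapP_snd pX h w) (hδmap pX hδX h w) (sqP pX h w) hr hrP x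
        (show δX x + (k - δX x) = k by ring) v hv ζ hζ hζm v' hv' ζ' hζ' hm']
      obtain ⟨h1, h2⟩ := psi_spec pX hδX hK p φ s k _ _ _ hx v hv ζ hζ hζm (by ring)
      obtain ⟨g1, g2⟩ := psi_spec pX hδX hK p φ t (k + r) _ _ _ hx v' hv2 ζ' hζ' hm' (by ring)
      by_cases ha : δX x = p
      · have hm2 := Bivar.pullFun_mem_Zk h t.δ s.δ r (k - p) (ha ▸ hv) v' hv'
        rw [h1 ha (ha ▸ hv), g1 ha (e ▸ hm2), map_zsmul, pullOp_cl h hr _ _ _ v _ v' hv' hm2, AddEquiv.coe_toAddMonoidHom,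
          map_zsmul, Bivar.chCast_cl]
      · rw [h2 ha, g2 ha, map_zero, map_zero]
    show psi pX hδX hK p φ t (k + r) (pushOp (graph pX t) _ _ _ (k + r) (pullOp h hr _ _ _ k z)) =
      Bivar.chCast t.Y t.δ e (pullOp h hr _ _ _ (k - p) (psi pX hδX hK p φ s k (pushOp (graph pX s) _ _ _ k z)))
    rw [← pullOp_pushOp_bc (graph pX s) (mapP pX h w) (graph pX t) h (sqγ pX h w) hrP hr (sY pX hδX s) (sP pX hδX s)
      (sY pX hδX t) (sP pX hδX t) (hγ pX hδX s) (hδmap pX hδX h w) (hγ pX hδX t) (hδh h w) z]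
    exact DFunLike.congr_fun key _
  gysin s t i _ w L hL σ hσ k := by
    haveI : IsClosedImmersion (mapP pX i w) :=
      MorphismProperty.of_isPullback (sqP pX i w).flip ‹IsClosedImmersion i›
    have hi := delta_closedImmersion i (hδh i w)
    have hiP := delta_closedImmersion (mapP pX i w) (hδmap pX hδX i w)
    have e : k - p - 1 = k - 1 - p := by ring
    have hN := Groth.L18.Ample.isInvertible_pullback (pullback.snd pX (s.g ≫ pX)) hL
    have hτ : Cyc.IsZeroSchemeOf (mapP pX i w) ((Scheme.Modules.pullback (pullback.snd pX (s.g ≫ pX))).obj L)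
        (Groth.L18.Frame.pull (pullback.snd pX (s.g ≫ pX)) L ⊤ σ) :=
      Groth.L22.P1Zero.isZeroSchemeOf_iso _ (pullback.fst (pullback.snd pX (s.g ≫ pX)) i) (sqP pX i w).isoPullback.hom
        (sqP pX i w).isoPullback_hom_fst (Groth.L22.C1.isZeroScheme_base (pullback.snd pX (s.g ≫ pX)) i hL σ hσ)
    refine gysinOK₁_of_gysinOK (gysinOK_of_apply (sY pX hδX s) hi hL hσ (sY pX hδX s) hi hL hσ e fun z => ?_)
    have key : (psi pX hδX hK p φ t (k - 1)).comp (gysinOp (mapP pX i w) (sP pX hδX s) hiP hN hτ k) =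
        ((Bivar.chCast t.Y t.δ e).toAddMonoidHom.comp (gysinOp i (sY pX hδX s) hi hL hσ (k - p))).comp
          (psi pX hδX hK p φ s k) := by
      refine hom_ext_gen (IsPullback.of_hasPullback _ _) hδX (hY pX hδX s) (hP pX hδX s) (hK s) _ _
        fun x v hv ζ hζ hζm => ?_
      haveI := (sP pX hδX t).1
      obtain ⟨w', hw'⟩ := exists_sec hL
      obtain ⟨v', hv'⟩ := exists_gysin i (sY pX hδX s) hL (σ := σ) v w' hw'
      obtain ⟨ζ', hζ'⟩ := exists_prod (IsPullback.of_hasPullback pX (t.g ≫ pX)) hδX (hY pX hδX t)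
        (Bivar.deltaCompat_comp _ pX _ δX _ (hP pX hδX t) hδX) (Function.locallyFinsuppWithin.single x (1 : ℤ)) v'
      have hx : (Function.locallyFinsuppWithin.single x (1 : ℤ) : AlgebraicCycle X ℤ) ∈ Cyc.Zk X δX (δX x) :=
        fun y hy => by
          show (Function.locallyFinsuppWithin.single x (1 : ℤ)) y = 0
          rw [Function.locallyFinsuppWithin.single_apply]
          exact if_neg fun e => hy (by rw [e])
      have hv2 := gysin_mem hi hv hv'
      have hm' : ζ' ∈ Cyc.Zk (PS pX t) (δPS pX hδX t) (k - 1) := by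
        have := prodVal_mem hx hv2 hζ'
        rwa [show δX x + (k - δX x - 1) = k - 1 by ring] at this
      simp only [AddMonoidHom.comp_apply]
      rw [gysin_gen (IsPullback.of_hasPullback _ _) (IsPullback.of_hasPullback _ _) hδX (hY pX hδX s) (hY pX hδX t)
        (hP pX hδX s) (hP pX hδX t) (sY pX hδX s) (sY pX hδX t) (sP pX hδX s) (sP pX hδX t)
        (mapP_fst pX i w) (mapP_snd pX i w) hL (sqP pX i w) hi hiP hσ hN hτ x
        (show δX x + (k - δX x) = k by ring) v hv ζ hζ hζm v' hv2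
        (gysinOp_cl i (sY pX hδX s) hi hL hσ v hv w' hw' v' hv' hv2) ζ' hζ' hm']
      obtain ⟨h1, h2⟩ := psi_spec pX hδX hK p φ s k _ _ _ hx v hv ζ hζ hζm (by ring)
      obtain ⟨g1, g2⟩ := psi_spec pX hδX hK p φ t (k - 1) _ _ _ hx v' hv2 ζ' hζ' hm' (by ring)
      by_cases ha : δX x = p
      · have hm2 := gysin_mem hi (ha ▸ hv : v ∈ Cyc.Zk s.Y s.δ (k - p)) hv'
        rw [h1 ha (ha ▸ hv), g1 ha (e ▸ hm2), map_zsmul, gysinOp_cl i _ hi hL hσ v _ w' hw' v' hv' hm2,
          AddEquiv.coe_toAddMonoidHom, map_zsmul, Bivar.chCast_cl]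
      · rw [h2 ha, g2 ha, map_zero, map_zero]
    show psi pX hδX hK p φ t (k - 1) (pushOp (graph pX t) _ _ _ (k - 1) (gysinOp i _ hi hL hσ k z)) =
      Bivar.chCast t.Y t.δ e (gysinOp i _ hi hL hσ (k - p) (psi pX hδX hK p φ s k (pushOp (graph pX s) _ _ _ k z)))
    rw [← gysinOp_pushOp_bc (graph pX s) (mapP pX i w) i (graph pX t) (sqγ pX i w) (sP pX hδX s) (sY pX hδX s)
      (sP pX hδX t) (sY pX hδX t) (hγ pX hδX s) (hγ pX hδX t) hiP hi hN hτ hL hσ
      ((Scheme.Modules.pullbackComp (graph pX s) (pullback.snd pX (s.g ≫ pX))).app L ≪≫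
        (Scheme.Modules.pullbackCongr (graph_snd pX s)).app L ≪≫ (Scheme.Modules.pullbackId s.Y).app L) z]
    exact DFunLike.congr_fun key _

open Classical in
/-- The functional is recovered from its class. -/
theorem opClass_kronecker (α : AlgebraicCycle X ℤ) (hα : α ∈ Cyc.Zk X δX p) (β : AlgebraicCycle X ℤ)
    (hβ : β ∈ Cyc.Zk X δX (p - p))
    (h : (opClass pX hδX hK p φ).cap p (ChowOps.cl α hα) = ChowOps.cl β hβ) :
    φ (ChowOps.cl α hα) = ChowOps.deg pX δX β := by
  let s : Bivar.OSq X δX := Bivar.OSq.self X δX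
  letI : X.Over (Spec (CommRingCat.of K)) := ⟨pX⟩
  haveI : IsProper (X ↘ Spec (CommRingCat.of K)) := inferInstanceAs (IsProper pX)
  let D : ∀ k, ChowOps.CH X δX k →+ ℤ := fun k => Groth.L22.Chern.degH (sX pX hδX) hδX k
  haveI : IsProper (s.g ≫ pX) := inferInstanceAs (IsProper (𝟙 X ≫ pX))
  haveI : IsProper (pullback.fst pX (s.g ≫ pX)) := inferInstance
  have key : (D (p - p)).comp (psi pX hδX hK p φ s p) =
      φ.comp (pushOp (pullback.fst pX (s.g ≫ pX)) (sP pX hδX s) (sX pX hδX) (hP pX hδX s) p) := by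
    refine hom_ext_gen (IsPullback.of_hasPullback _ _) hδX (hY pX hδX s) (hP pX hδX s) (hK s) _ _
      fun x v hv ζ hζ hζm => ?_
    haveI := (sP pX hδX s).1
    have hx : (Function.locallyFinsuppWithin.single x (1 : ℤ) : AlgebraicCycle X ℤ) ∈ Cyc.Zk X δX (δX x) :=
      fun y hy => by
        show (Function.locallyFinsuppWithin.single x (1 : ℤ)) y = 0
        rw [Function.locallyFinsuppWithin.single_apply]
        exact if_neg fun e => hy (by rw [e])
    simp only [AddMonoidHom.comp_apply]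
    have hmap := map_prod_snd (IsPullback.of_hasPullback pX (s.g ≫ pX)).flip (hY pX hδX s) hδX
      ((pullback.condition (f := pX) (g := s.g ≫ pX)) ▸ Bivar.deltaCompat_comp _ pX _ δX _ (hP pX hδX s) hδX)
      v hv (Function.locallyFinsuppWithin.single x (1 : ℤ)) ζ (by rw [hζ, prodVal_flip])
    have hv' : ChowOps.deg (s.g ≫ pX) s.δ v = ChowOps.deg pX δX v := by
      show AlgebraicCycle.map (𝟙 X ≫ pX) δX (fun _ => (0 : ℤ)) v _ = AlgebraicCycle.map pX δX (fun _ => (0 : ℤ)) v _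
      rw [Groth.L16.BivarOps.map_congr (Category.id_comp pX)]
    rw [hv'] at hmap
    rw [pushOp_cl]
    obtain ⟨h1, h2⟩ := psi_spec pX hδX hK p φ s p _ _ _ hx v hv ζ hζ hζm (by ring)
    by_cases ha : δX x = p
    · rw [h1 ha (ha ▸ hv), map_zsmul,
        Bivar.cl_congr hmap _ ((ChowOps.zk X δX p).zsmul_mem (ha ▸ hx) _)]
      show _ = φ (ChowOps.deg pX δX v • ChowOps.cl _ (ha ▸ hx))
      rw [map_zsmul, show D (p - p) (ChowOps.cl v (ha ▸ hv)) = ChowOps.deg pX δX v from rfl, smul_eq_mul, smul_eq_mul,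
        mul_comm]
      rfl
    · have h0 : ChowOps.deg pX δX v = 0 := deg_eq_zero pX v hv (sub_ne_zero.2 (Ne.symm ha))
      rw [h2 ha, map_zero, Bivar.cl_congr (hmap.trans (by rw [h0, zero_smul])) _ (ChowOps.zk X δX p).zero_mem,
        Bivar.cl_zero, map_zero]
  have h1 := DFunLike.congr_fun key (pushOp (graph pX s) (sY pX hδX s) (sP pX hδX s) (hγ pX hδX s) p (ChowOps.cl α hα))
  simp only [AddMonoidHom.comp_apply] at h1
  rw [show psi pX hδX hK p φ s p (pushOp (graph pX s) (sY pX hδX s) (sP pX hδX s) (hγ pX hδX s) p (ChowOps.cl α hα))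
      = ChowOps.cl β hβ from h,
    pushOp_comp (graph pX s) (pullback.fst pX (s.g ≫ pX)) (𝟙 X) (graph_fst pX s) (sY pX hδX s) (sP pX hδX s)
      (sX pX hδX) (hγ pX hδX s) (hP pX hδX s) (Bivar.deltaCompat_id δX), pushOp_id] at h1
  exact h1.symm

open Classical in
/-- A class with the Kronecker functional `φ` is the class of `φ`. -/
theorem eq_opClass (c : Bivar.OpCl p X δX)
    (hc : ∀ (α : AlgebraicCycle X ℤ) (hα : α ∈ Cyc.Zk X δX p) (β : AlgebraicCycle X ℤ)
      (hβ : β ∈ Cyc.Zk X δX (p - p)), c.cap p (ChowOps.cl α hα) = ChowOps.cl β hβ →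
      φ (ChowOps.cl α hα) = ChowOps.deg pX δX β) :
    c = opClass pX hδX hK p φ := by
  refine Bivar.OpCl.ext (funext fun s => funext fun m => AddMonoidHom.ext fun z => ?_)
  haveI := (sP pX hδX s).1
  haveI : LocallyOfFiniteType (pullback.fst pX (s.g ≫ pX)) := inferInstance
  have key : (pushOp (pullback.snd pX (s.g ≫ pX)) (sP pX hδX s) (sY pX hδX s) (hq2 pX hδX s) (m - p)).comp
      (c.op ⟨PS pX s, pullback.fst pX (s.g ≫ pX), inferInstance, δPS pX hδX s, hP pX hδX s⟩ m) =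
      psi pX hδX hK p φ s m := by
    refine hom_ext_gen (IsPullback.of_hasPullback _ _) hδX (hY pX hδX s) (hP pX hδX s) (hK s) _ _
      fun x v hv ζ hζ hζm => ?_
    have hx : (Function.locallyFinsuppWithin.single x (1 : ℤ) : AlgebraicCycle X ℤ) ∈ Cyc.Zk X δX (δX x) :=
      fun y hy => by
        show (Function.locallyFinsuppWithin.single x (1 : ℤ)) y = 0
        rw [Function.locallyFinsuppWithin.single_apply]
        exact if_neg fun e => hy (by rw [e])
    obtain ⟨β, hβ, hcβ⟩ := Bivar.exists_rep (c.cap (δX x) (ChowOps.cl _ hx))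
    obtain ⟨hd, e⟩ := snd_op_prod (IsPullback.of_hasPullback pX (s.g ≫ pX)) hδX (hY pX hδX s) (hP pX hδX s)
      (sY pX hδX s) (sP pX hδX s) (hq2 pX hδX s) c _ hx v hv (show δX x + (m - δX x) = m by ring) β hβ hcβ.symm
      ζ hζ hζm
    obtain ⟨h1, h2⟩ := psi_spec pX hδX hK p φ s m _ _ _ hx v hv ζ hζ hζm (by ring)
    rw [AddMonoidHom.comp_apply, e]
    by_cases ha : δX x = p
    · have hdeg : φ (ChowOps.cl _ (ha ▸ hx)) = ChowOps.deg pX δX β :=
        hkey hc _ hx β hβ hcβ.symm ha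
      rw [h1 ha (ha ▸ hv), hdeg]
      rfl
    · rw [h2 ha, Bivar.cl_congr (by rw [deg_eq_zero pX β hβ (sub_ne_zero.2 ha), zero_smul]) hd
        (ChowOps.zk s.Y s.δ (m - p)).zero_mem, Bivar.cl_zero]
  show c.op s m z = psi pX hδX hK p φ s m (pushOp (graph pX s) _ _ _ m z)
  rw [← key]
  exact op_eq_graph (hP pX hδX s) (sY pX hδX s) (sP pX hδX s) (hq2 pX hδX s) s.lft s.compat (graph pX s)
    (graph_fst pX s) (graph_snd pX s) (hγ pX hδX s) c m z
where
  hkey {c : Bivar.OpCl p X δX} (hc : ∀ (α : AlgebraicCycle X ℤ) (hα : α ∈ Cyc.Zk X δX p) (β : AlgebraicCycle X ℤ)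
      (hβ : β ∈ Cyc.Zk X δX (p - p)), c.cap p (ChowOps.cl α hα) = ChowOps.cl β hβ →
      φ (ChowOps.cl α hα) = ChowOps.deg pX δX β) (u : AlgebraicCycle X ℤ) {a : ℤ} (hu : u ∈ Cyc.Zk X δX a)
      (β : AlgebraicCycle X ℤ) (hβ : β ∈ Cyc.Zk X δX (a - p))
      (e : c.cap a (ChowOps.cl u hu) = ChowOps.cl β hβ) (ha : a = p) :
      φ (ChowOps.cl u (ha ▸ hu)) = ChowOps.deg pX δX β := by
    subst ha
    exact hc u hu β hβ e

end Groth.L22.Kron
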