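import Groth.Agent.L22.Kron.Act

/-!
Naturality of exterior products with the class of a point.
-/

set_option autoImplicit false
set_option linter.style.haveILetI false
set_option linter.unusedSectionVars false
set_option maxHeartbeats 800000
set_option maxSynthPendingDepth 3
set_option backward.isDefEq.respectTransparency.types false
set_option backward.isDefEq.respectTransparency false

universe u

open CategoryTheory CategoryTheory.Limits AlgebraicGeometry TopologicalSpace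
open Groth.L16.BivarOps
open Groth.L22.Chern (pullC pullC_apply pullC_coe pullC_mem pushC pushC_eq Shift)

noncomputable section

namespace Groth.L22.Kron

section One

variable {K : Type u} [Field K] {X P Y : Scheme.{u}} {pX : X ⟶ Spec (CommRingCat.of K)} [LocallyOfFiniteType pX]
  {pY : Y ⟶ Spec (CommRingCat.of K)} [LocallyOfFiniteType pY] {q1 : P ⟶ X} {q2 : P ⟶ Y}
  (sq : IsPullback q1 q2 pX pY) {δX : X → ℤ} {δY : Y → ℤ} {δP : P → ℤ}
  (hδX : Cyc.DeltaCompat pX δX fun _ => 0) (hδY : Cyc.DeltaCompat pY δY fun _ => 0)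
  (hδP : Cyc.DeltaCompat q1 δP δX) (x : X)

/-- The part of the product over a point of the first factor. -/
abbrev Pc (q1 : P ⟶ X) (x : X) : Scheme.{u} := pullback q1 (Groth.L22.Cyc.clι x)

/-- Its inclusion. -/
abbrev jPc (q1 : P ⟶ X) (x : X) : Pc q1 x ⟶ P := pullback.fst q1 (Groth.L22.Cyc.clι x)

include sq hδX in
/-- Its projection to the second factor is flat of relative dimension the dimension of the point. -/
theorem pc_facts : Flat (jPc q1 x ≫ q2) ∧ LocallyOfFiniteType (jPc q1 x ≫ q2) ∧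
    ∃ r : ℕ, (r : ℤ) = δX x ∧ Cyc.HasRelDim (jPc q1 x ≫ q2) r := by
  haveI : LocallyOfFiniteType q2 := MorphismProperty.of_isPullback sq ‹LocallyOfFiniteType pX›
  obtain ⟨n, hn, hdn⟩ := Groth.L22.Bundle.deltaCompat_comp (Groth.L22.Cyc.clι x) pX hδX
    (genericPoint (Groth.L22.Cyc.clSub x))
  replace hdn : δX (Groth.L22.Cyc.clι x (genericPoint (Groth.L22.Cyc.clSub x))) = (0 : ℤ) + n := hdn
  rw [Groth.L22.Cyc.clι_genericPoint] at hdn
  exact ⟨flat_piece sq.flip (IsPullback.of_hasPullback q1 _), inferInstance, n, by omega,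
    Groth.L22.Cyc.hasRelDim_baseChange ((IsPullback.of_hasPullback q1 _).flip.paste_vert sq)
      (hasRelDim_integral (Groth.L22.Cyc.clι x ≫ pX) hn)⟩

variable [DecidableEq ↥X] [Flat (jPc q1 x ≫ q2)] [LocallyOfFiniteType (jPc q1 x ≫ q2)] {r : ℕ}

include sq hδX hδY hδP in
/-- The exterior product with a point as push-forward of a flat pull-back. -/
theorem prod_eq_E (hr : Cyc.HasRelDim (jPc q1 x ≫ q2) r) (hsY : Cyc.IsSetup Y δY) (hsP : Cyc.IsSetup P δP)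
    (hsE : Cyc.IsSetup (Pc q1 x) fun t => δP (jPc q1 x t))
    (hj : Cyc.DeltaCompat (jPc q1 x) (fun t => δP (jPc q1 x t)) δP)
    (hpr : Cyc.DeltaCompat (jPc q1 x ≫ q2) (fun t => δP (jPc q1 x t)) δY) {b m : ℤ} (e : b + r = m)
    (v : AlgebraicCycle Y ℤ) (hv : v ∈ Cyc.Zk Y δY b) (ζ : AlgebraicCycle P ℤ)
    (hζ : ⇑ζ = prodVal q1 q2 δX δY δP ⇑(Function.locallyFinsuppWithin.single x (1 : ℤ) : AlgebraicCycle X ℤ) ⇑v)
    (hζm : ζ ∈ Cyc.Zk P δP m) :
    ChowOps.cl ζ hζm = Bivar.chCast P δP e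
      (pushOp (jPc q1 x) hsE hsP hj (b + r) (pullOp (jPc q1 x ≫ q2) hr hsE hsY hpr b (ChowOps.cl v hv))) := by
  subst e
  haveI := hsE.1
  haveI := hsP.1
  have hP : Cyc.DeltaCompat (q2 ≫ pY) δP fun _ => 0 := sq.w ▸ Bivar.deltaCompat_comp q1 pX δP δX _ hδP hδX
  have hsh : Shift (jPc q1 x ≫ q2) (fun t => δP (jPc q1 x t)) δY (r : ℤ) := shift _ hr hpr
  have hm := pullC_mem (jPc q1 x ≫ q2) hsh hv
  rw [pullOp_cl _ hr hsE hsY hpr v hv (pullC (jPc q1 x ≫ q2) hsh v) (pullC_coe _ hsh v) hm, pushOp_cl]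
  refine Bivar.cl_congr (Function.locallyFinsuppWithin.ext fun z => ?_) _ _
  rw [← pushC_eq, point_formula sq.flip hδY hδX hP (IsPullback.of_hasPullback q1 (Groth.L22.Cyc.clι x)) x
    (Groth.L22.Cyc.clι_genericPoint x) hsh, hζ, prodVal]
  by_cases hx : q1 z = x
  · simp only [hx, Function.locallyFinsuppWithin.single_apply, if_true, one_mul, and_true, lenSup, add_comm (δY _)]
    rw [sup_comm]
  · simp [hx, Function.locallyFinsuppWithin.single_apply]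

end One

variable {K : Type u} [Field K] {X : Scheme.{u}} [DecidableEq ↥X] {pX : X ⟶ Spec (CommRingCat.of K)} [IsProper pX]
  {S T PS PT : Scheme.{u}} {pS : S ⟶ Spec (CommRingCat.of K)} [LocallyOfFiniteType pS]
  {pT : T ⟶ Spec (CommRingCat.of K)} [LocallyOfFiniteType pT] {q1S : PS ⟶ X} {q2S : PS ⟶ S} {q1T : PT ⟶ X}
  {q2T : PT ⟶ T} (sqS : IsPullback q1S q2S pX pS) (sqT : IsPullback q1T q2T pX pT) {δX : X → ℤ} {δS : S → ℤ}
  {δT : T → ℤ} {δPS : PS → ℤ} {δPT : PT → ℤ} (hδX : Cyc.DeltaCompat pX δX fun _ => 0)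
  (hδS : Cyc.DeltaCompat pS δS fun _ => 0) (hδT : Cyc.DeltaCompat pT δT fun _ => 0)
  (hPS : Cyc.DeltaCompat q1S δPS δX) (hPT : Cyc.DeltaCompat q1T δPT δX)
  (hsS : Cyc.IsSetup S δS) (hsT : Cyc.IsSetup T δT) (hsPS : Cyc.IsSetup PS δPS) (hsPT : Cyc.IsSetup PT δPT)
  {h : T ⟶ S} (hδh : Cyc.DeltaCompat h δT δS) {hP : PT ⟶ PS} (hw1 : hP ≫ q1S = q1T) (hw2 : hP ≫ q2S = q2T ≫ h)
  (hδhP : Cyc.DeltaCompat hP δPT δPS)

include sqS sqT hw1 hw2 in
theorem isPullback_prod (hpS : h ≫ pS = pT) : IsPullback hP q2T q2S h := by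
  refine IsPullback.of_right ?_ hw2 sqS
  rw [hw1, hpS]
  exact sqT

/-- The parts over a point are cartesian over the products. -/
theorem exists_pcMap (hw1 : hP ≫ q1S = q1T) (x : X) :
    ∃ hE : Pc q1T x ⟶ Pc q1S x, IsPullback hE (jPc q1T x) (jPc q1S x) hP := by
  let hE : Pc q1T x ⟶ Pc q1S x := pullback.lift (jPc q1T x ≫ hP) (pullback.snd _ _)
    (by rw [Category.assoc, hw1, pullback.condition])
  refine ⟨hE, IsPullback.of_right ?_ (pullback.lift_fst _ _ _) (IsPullback.of_hasPullback q1S _).flip⟩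
  rw [pullback.lift_snd, hw1]
  exact (IsPullback.of_hasPullback q1T _).flip

include sqS sqT hδX hδS hδT hPS hPT hsS hsT hsPS hsPT hδh hw1 hw2 hδhP in
/-- Exterior products with a point commute with proper push-forward. -/
theorem push_gen (hsq : IsPullback hP q2T q2S h) [IsProper h] [IsProper hP] (x : X) {b m : ℤ} (hm : δX x + b = m)
    (v : AlgebraicCycle T ℤ) (hv : v ∈ Cyc.Zk T δT b) (ζT : AlgebraicCycle PT ℤ)
    (hζT : ⇑ζT = prodVal q1T q2T δX δT δPT ⇑(Function.locallyFinsuppWithin.single x (1 : ℤ) : AlgebraicCycle X ℤ) ⇑v)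
    (hζTm : ζT ∈ Cyc.Zk PT δPT m) (ζS : AlgebraicCycle PS ℤ)
    (hζS : ⇑ζS = prodVal q1S q2S δX δS δPS ⇑(Function.locallyFinsuppWithin.single x (1 : ℤ) : AlgebraicCycle X ℤ)
      ⇑(AlgebraicCycle.map h δT δS v))
    (hζSm : ζS ∈ Cyc.Zk PS δPS m) :
    pushOp hP hsPT hsPS hδhP m (ChowOps.cl ζT hζTm) = ChowOps.cl ζS hζSm := by
  obtain ⟨hfS, hlS, rS, hrx, hrS⟩ := pc_facts sqS hδX x
  obtain ⟨hfT, hlT, rT, hrx', hrT⟩ := pc_facts sqT hδX x
  obtain rfl : rT = rS := by omega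
  haveI := hfS; haveI := hlS; haveI := hfT; haveI := hlT
  obtain ⟨hE, sqE⟩ := exists_pcMap hw1 x
  haveI : IsProper hE := MorphismProperty.of_isPullback sqE.flip ‹IsProper hP›
  have hsES := Groth.L22.C1.isSetup_closedImmersion (jPc q1S x) hsPS
  have hsET := Groth.L22.C1.isSetup_closedImmersion (jPc q1T x) hsPT
  have hjS := Groth.L22.C1.deltaCompat_closedImmersion (jPc q1S x) δPS
  have hjT := Groth.L22.C1.deltaCompat_closedImmersion (jPc q1T x) δPT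
  have hq2S : Cyc.DeltaCompat q2S δPS δS := Groth.L22.Bundle.deltaCompat_cancel q2S pS
    (sqS.w ▸ Bivar.deltaCompat_comp q1S pX δPS δX _ hPS hδX) hδS
  have hq2T : Cyc.DeltaCompat q2T δPT δT := Groth.L22.Bundle.deltaCompat_cancel q2T pT
    (sqT.w ▸ Bivar.deltaCompat_comp q1T pX δPT δX _ hPT hδX) hδT
  have hprS := Bivar.deltaCompat_comp _ _ _ _ _ hjS hq2S
  have hprT := Bivar.deltaCompat_comp _ _ _ _ _ hjT hq2T
  have hEδ : Cyc.DeltaCompat hE (fun t => δPT (jPc q1T x t)) fun t => δPS (jPc q1S x t) :=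
    Groth.L22.Bundle.deltaCompat_cancel hE (jPc q1S x)
      (sqE.w.symm ▸ Bivar.deltaCompat_comp _ _ _ _ _ hjT hδhP) hjS
  have e : b + (rT : ℤ) = m := by omega
  rw [prod_eq_E sqT hδX hδT hPT x hrT hsT hsPT hsET hjT hprT e v hv ζT hζT,
    prod_eq_E sqS hδX hδS hPS x hrS hsS hsPS hsES hjS hprS e _ (Bivar.cycMap_mem_Zk h δT δS b hv) ζS hζS,
    chCast_pushOp, ← pushOp_cl h hsT hsS hδh v hv,
    pullOp_pushOp_bc h (jPc q1S x ≫ q2S) hE (jPc q1T x ≫ q2T) (sqE.flip.paste_horiz hsq.flip) hrS hrT hsT hsS hsET hsES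
      hδh hprS hEδ hprT]
  congr 1
  haveI : IsProper (hE ≫ jPc q1S x) := inferInstance
  rw [pushOp_comp (jPc q1T x) hP (hE ≫ jPc q1S x) sqE.w.symm hsET hsPT hsPS hjT hδhP
      (Bivar.deltaCompat_comp _ _ _ _ _ hEδ hjS),
    pushOp_comp hE (jPc q1S x) (hE ≫ jPc q1S x) rfl hsET hsES hsPS hEδ hjS _]

include sqS sqT hδX hδS hδT hPS hPT hsS hsT hsPS hsPT hδh hw1 hw2 hδhP in
/-- Exterior products with a point commute with flat pull-back. -/
theorem pull_gen (hsq : IsPullback hP q2T q2S h) [Flat h] [LocallyOfFiniteType h] [Flat hP] [LocallyOfFiniteType hP]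
    {r : ℕ} (hrh : Cyc.HasRelDim h r) (hrP : Cyc.HasRelDim hP r) (x : X) {b m : ℤ} (hm : δX x + b = m)
    (v : AlgebraicCycle S ℤ) (hv : v ∈ Cyc.Zk S δS b) (ζS : AlgebraicCycle PS ℤ)
    (hζS : ⇑ζS = prodVal q1S q2S δX δS δPS ⇑(Function.locallyFinsuppWithin.single x (1 : ℤ) : AlgebraicCycle X ℤ) ⇑v)
    (hζSm : ζS ∈ Cyc.Zk PS δPS m) (v' : AlgebraicCycle T ℤ) (hv' : ⇑v' = Cyc.pullFun h δT δS (r : ℤ) ⇑v)
    (ζT : AlgebraicCycle PT ℤ)
    (hζT : ⇑ζT = prodVal q1T q2T δX δT δPT ⇑(Function.locallyFinsuppWithin.single x (1 : ℤ) : AlgebraicCycle X ℤ) ⇑v')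
    (hζTm : ζT ∈ Cyc.Zk PT δPT (m + r)) :
    pullOp hP hrP hsPT hsPS hδhP m (ChowOps.cl ζS hζSm) = ChowOps.cl ζT hζTm := by
  obtain ⟨hfS, hlS, rS, hrx, hrS⟩ := pc_facts sqS hδX x
  obtain ⟨hfT, hlT, rT, hrx', hrT⟩ := pc_facts sqT hδX x
  obtain rfl : rT = rS := by omega
  haveI := hfS; haveI := hlS; haveI := hfT; haveI := hlT
  obtain ⟨hE, sqE⟩ := exists_pcMap hw1 x
  haveI : Flat hE := MorphismProperty.of_isPullback sqE.flip ‹Flat hP›
  haveI : LocallyOfFiniteType hE := MorphismProperty.of_isPullback sqE.flip ‹LocallyOfFiniteType hP›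
  have hsES := Groth.L22.C1.isSetup_closedImmersion (jPc q1S x) hsPS
  have hsET := Groth.L22.C1.isSetup_closedImmersion (jPc q1T x) hsPT
  have hjS := Groth.L22.C1.deltaCompat_closedImmersion (jPc q1S x) δPS
  have hjT := Groth.L22.C1.deltaCompat_closedImmersion (jPc q1T x) δPT
  have hq2S : Cyc.DeltaCompat q2S δPS δS := Groth.L22.Bundle.deltaCompat_cancel q2S pS
    (sqS.w ▸ Bivar.deltaCompat_comp q1S pX δPS δX _ hPS hδX) hδS
  have hq2T : Cyc.DeltaCompat q2T δPT δT := Groth.L22.Bundle.deltaCompat_cancel q2T pT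
    (sqT.w ▸ Bivar.deltaCompat_comp q1T pX δPT δX _ hPT hδX) hδT
  have hprS := Bivar.deltaCompat_comp _ _ _ _ _ hjS hq2S
  have hprT := Bivar.deltaCompat_comp _ _ _ _ _ hjT hq2T
  have hEδ : Cyc.DeltaCompat hE (fun t => δPT (jPc q1T x t)) fun t => δPS (jPc q1S x t) :=
    Groth.L22.Bundle.deltaCompat_cancel hE (jPc q1S x)
      (sqE.w.symm ▸ Bivar.deltaCompat_comp _ _ _ _ _ hjT hδhP) hjS
  have hrE : Cyc.HasRelDim hE r := Groth.L22.Cyc.hasRelDim_baseChange sqE.flip hrP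
  have e : b + (rT : ℤ) = m := by omega
  have e' : b + (r : ℤ) + (rT : ℤ) = m + r := by omega
  have hvm := Bivar.pullFun_mem_Zk h δT δS r b hv v' hv'
  rw [prod_eq_E sqS hδX hδS hPS x hrS hsS hsPS hsES hjS hprS e v hv ζS hζS,
    prod_eq_E sqT hδX hδT hPT x hrT hsT hsPT hsET hjT hprT e' v' hvm ζT hζT,
    ← pullOp_cl h hrh hsT hsS hδh v hv v' hv' hvm, chCast_pullOp,
    pullOp_pushOp_bc (jPc q1S x) hP (jPc q1T x) hE sqE hrP hrE hsES hsPS hsET hsPT hjS hδhP hjT hEδ,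
    ← pullOp_pullOp_comm hE (jPc q1S x ≫ q2S) (jPc q1T x ≫ q2T) h (by
        rw [Category.assoc, ← hw2, ← Category.assoc, sqE.w, Category.assoc]) hrE hrS hrT hrh hsET hsES hsT hsS
      hEδ hprS hprT hδh (show b + (rT : ℤ) + r = b + r + rT by ring), chCast_pushOp, chCast_trans]

variable {L : S.Modules} (hL : PicF.IsInvertible L) {σ : L.presheaf.obj (Opposite.op ⊤)}

include sqS sqT hδX hδS hδT hPS hPT hsS hsT hsPS hsPT hw1 hw2 in
/-- Exterior products with a point commute with Gysin maps. -/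
theorem gysin_gen (hsq : IsPullback hP q2T q2S h) [IsClosedImmersion h] [IsClosedImmersion hP]
    (hi : δT = fun d => δS (h d)) (hiP : δPT = fun d => δPS (hP d)) (hσ : Cyc.IsZeroSchemeOf h L σ)
    (hN : PicF.IsInvertible ((Scheme.Modules.pullback q2S).obj L))
    (hτ : Cyc.IsZeroSchemeOf hP ((Scheme.Modules.pullback q2S).obj L) (Groth.L18.Frame.pull q2S L ⊤ σ))
    (x : X) {b m : ℤ} (hm : δX x + b = m)
    (v : AlgebraicCycle S ℤ) (hv : v ∈ Cyc.Zk S δS b) (ζS : AlgebraicCycle PS ℤ)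
    (hζS : ⇑ζS = prodVal q1S q2S δX δS δPS ⇑(Function.locallyFinsuppWithin.single x (1 : ℤ) : AlgebraicCycle X ℤ) ⇑v)
    (hζSm : ζS ∈ Cyc.Zk PS δPS m) (v' : AlgebraicCycle T ℤ) (hvm : v' ∈ Cyc.Zk T δT (b - 1))
    (hv' : gysinOp h hsS hi hL hσ b (ChowOps.cl v hv) = ChowOps.cl v' hvm) (ζT : AlgebraicCycle PT ℤ)
    (hζT : ⇑ζT = prodVal q1T q2T δX δT δPT ⇑(Function.locallyFinsuppWithin.single x (1 : ℤ) : AlgebraicCycle X ℤ) ⇑v')
    (hζTm : ζT ∈ Cyc.Zk PT δPT (m - 1)) :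
    gysinOp hP hsPS hiP hN hτ m (ChowOps.cl ζS hζSm) = ChowOps.cl ζT hζTm := by
  obtain ⟨hfS, hlS, rS, hrx, hrS⟩ := pc_facts sqS hδX x
  obtain ⟨hfT, hlT, rT, hrx', hrT⟩ := pc_facts sqT hδX x
  obtain rfl : rT = rS := by omega
  haveI := hfS; haveI := hlS; haveI := hfT; haveI := hlT
  obtain ⟨hE, sqE⟩ := exists_pcMap hw1 x
  haveI : IsClosedImmersion hE := MorphismProperty.of_isPullback sqE.flip ‹IsClosedImmersion hP›
  have hsES := Groth.L22.C1.isSetup_closedImmersion (jPc q1S x) hsPS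
  have hsET := Groth.L22.C1.isSetup_closedImmersion (jPc q1T x) hsPT
  have hjS := Groth.L22.C1.deltaCompat_closedImmersion (jPc q1S x) δPS
  have hjT := Groth.L22.C1.deltaCompat_closedImmersion (jPc q1T x) δPT
  have hq2S : Cyc.DeltaCompat q2S δPS δS := Groth.L22.Bundle.deltaCompat_cancel q2S pS
    (sqS.w ▸ Bivar.deltaCompat_comp q1S pX δPS δX _ hPS hδX) hδS
  have hq2T : Cyc.DeltaCompat q2T δPT δT := Groth.L22.Bundle.deltaCompat_cancel q2T pT
    (sqT.w ▸ Bivar.deltaCompat_comp q1T pX δPT δX _ hPT hδX) hδT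
  have hprS := Bivar.deltaCompat_comp _ _ _ _ _ hjS hq2S
  have hprT := Bivar.deltaCompat_comp _ _ _ _ _ hjT hq2T
  have hEi : (fun t => δPT (jPc q1T x t)) = fun t => δPS (jPc q1S x (hE t)) := funext fun t => by
    rw [hiP]
    show δPS (hP (jPc q1T x t)) = δPS (jPc q1S x (hE t))
    rw [← Scheme.Hom.comp_apply, ← sqE.w, Scheme.Hom.comp_apply]
  have hM := Groth.L18.Ample.isInvertible_pullback (jPc q1S x ≫ q2S) hL
  have sqtot : IsPullback hE (jPc q1T x ≫ q2T) (jPc q1S x ≫ q2S) h := sqE.paste_vert hsq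
  have hME : Cyc.IsZeroSchemeOf hE ((Scheme.Modules.pullback (jPc q1S x ≫ q2S)).obj L)
      (Groth.L18.Frame.pull (jPc q1S x ≫ q2S) L ⊤ σ) :=
    Groth.L22.P1Zero.isZeroSchemeOf_iso hE (pullback.fst (jPc q1S x ≫ q2S) h) sqtot.isoPullback.hom
      sqtot.isoPullback_hom_fst (Groth.L22.C1.isZeroScheme_base (jPc q1S x ≫ q2S) h hL σ hσ)
  have e : b + (rT : ℤ) = m := by omega
  have e' : b - 1 + (rT : ℤ) = m - 1 := by omega
  rw [prod_eq_E sqS hδX hδS hPS x hrS hsS hsPS hsES hjS hprS e v hv ζS hζS,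
    prod_eq_E sqT hδX hδT hPT x hrT hsT hsPT hsET hjT hprT e' v' hvm ζT hζT, ← hv', chCast_gysinOp,
    gysinOp_pushOp_bc (jPc q1S x) hP hE (jPc q1T x) sqE hsPS hsES hsPT hsET hjS hjT hiP hEi hN hτ hM hME
      (((Scheme.Modules.pullbackComp (jPc q1S x) q2S).app L)),
    ← gysinOp_pullOp_bc (jPc q1S x ≫ q2S) h hE (jPc q1T x ≫ q2T) sqtot hrS hrT hsS hsES hsT hsET hprS hprT hi hEi
      hL hσ hM hME (Iso.refl _) (show b + (rT : ℤ) - 1 = b - 1 + rT by ring), chCast_pushOp, chCast_trans]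

end Groth.L22.Kron
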