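import Groth.Agent.L22.Kron.Prod
import Groth.Agent.L16.Bivar.Vanish

/-!
Operational classes commute with exterior products.
-/

set_option autoImplicit false
set_option linter.style.haveILetI false
set_option linter.unusedSectionVars false
set_option maxHeartbeats 800000
set_option maxSynthPendingDepth 3
set_option backward.isDefEq.respectTransparency.types false
set_option backward.isDefEq.respectTransparency false

universe u

open CategoryTheory CategoryTheory.Limits AlgebraicGeometry TopologicalSpace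
open Groth.L22.Chern (pullC pullC_apply pullC_coe pullC_mem pushC pushC_eq Shift)
open Groth.L16.BivarOps

noncomputable section

namespace Groth.L22.Kron

variable {X : Scheme.{u}} {δX : X → ℤ} {p : ℤ}

/-- An operational class commutes with restriction to open subschemes. -/
theorem op_res' (hX : Cyc.IsSetup X δX) (c : Bivar.OpCl p X δX) (s t : Bivar.OSq X δX) (h : t.Y ⟶ s.Y) [IsOpenImmersion h]
    (w : h ≫ s.g = t.g) (hs : Cyc.IsSetup s.Y s.δ) (ht : Cyc.IsSetup t.Y t.δ) (hδ : Cyc.DeltaCompat h t.δ s.δ) (k : ℤ)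
    (z : ChowOps.CH s.Y s.δ k) : c.op t k (resOp h hs ht hδ k z) = resOp h hs ht hδ (k - p) (c.op s k z) := by
  have e : k + ((0 : ℕ) : ℤ) = k := by simp
  have key := pull_apply (hasRelDim_openImmersion h) (hasRelDim_openImmersion h) ht hs hδ ht hs hδ
    (c.pull s t h 0 (hasRelDim_openImmersion h) w k)
    (show k - p + ((0 : ℕ) : ℤ) = k + ((0 : ℕ) : ℤ) - p by simp) z
  show c.op t k (Bivar.chCast t.Y t.δ e _) = Bivar.chCast t.Y t.δ _ _
  rw [op_chCast c t e, key, chCast_trans]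
where
  op_chCast (c : Bivar.OpCl p X δX) (t : Bivar.OSq X δX) {a b : ℤ} (e : a = b) (z : ChowOps.CH t.Y t.δ a) :
      c.op t b (Bivar.chCast t.Y t.δ e z) = Bivar.chCast t.Y t.δ (by rw [e]) (c.op t a z) := by
    subst e; rfl

variable {K : Type u} [Field K] {P Y : Scheme.{u}} {pX : X ⟶ Spec (CommRingCat.of K)} [IsProper pX]
  {pY : Y ⟶ Spec (CommRingCat.of K)} [LocallyOfFiniteType pY] {q1 : P ⟶ X} {q2 : P ⟶ Y}
  (sq : IsPullback q1 q2 pX pY) {δY : Y → ℤ} {δP : P → ℤ} (hδX : Cyc.DeltaCompat pX δX fun _ => 0)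
  (hδY : Cyc.DeltaCompat pY δY fun _ => 0) (hδP : Cyc.DeltaCompat q1 δP δX)
  [hq1 : LocallyOfFiniteType q1]

include sq hδX hδY in
/-- An operational class acts on an exterior product through its first factor. -/
theorem op_prod (c : Bivar.OpCl p X δX) {a b : ℤ} (u : AlgebraicCycle X ℤ) (hu : u ∈ Cyc.Zk X δX a)
    (v : AlgebraicCycle Y ℤ) (hv : v ∈ Cyc.Zk Y δY b) (β : AlgebraicCycle X ℤ) (hβ : β ∈ Cyc.Zk X δX (a - p))
    (hcβ : c.cap a (ChowOps.cl u hu) = ChowOps.cl β hβ) (ζ : AlgebraicCycle P ℤ)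
    (hζ : ⇑ζ = prodVal q1 q2 δX δY δP ⇑u ⇑v) (ζ' : AlgebraicCycle P ℤ)
    (hζ' : ⇑ζ' = prodVal q1 q2 δX δY δP ⇑β ⇑v) {m : ℤ} (hζm : ζ ∈ Cyc.Zk P δP m) (hζ'm : ζ' ∈ Cyc.Zk P δP (m - p))
    (hm : a + b = m) :
    c.op ⟨P, q1, hq1, δP, hδP⟩ m (ChowOps.cl ζ hζm) = ChowOps.cl ζ' hζ'm := by
  classical
  subst hm
  have hP : Cyc.DeltaCompat (q1 ≫ pX) δP fun _ => 0 := Bivar.deltaCompat_comp q1 pX δP δX _ hδP hδX
  have hk := Groth.L22.SymCorr.isSetup_field K
  have hsX := Groth.L22.Chern.setup_of_compat pX hk hδX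
  have hsP := Groth.L22.Chern.setup_of_compat (q1 ≫ pX) hk hP
  haveI := hsX.1
  haveI := hsP.1
  /- the components -/
  let S : Type u := {w : Y // v w ≠ 0}
  let W : S → Scheme.{u} := fun w => Groth.L22.Cyc.clSub w.1
  let ι : ∀ w, W w ⟶ Y := fun w => Groth.L22.Cyc.clι w.1
  have hι : ∀ w, ι w (genericPoint (W w)) = w.1 := fun w => Groth.L22.Cyc.clι_genericPoint w.1
  let E : S → Scheme.{u} := fun w => pullback q2 (ι w)
  let j : ∀ w, E w ⟶ P := fun w => pullback.fst q2 (ι w)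
  have sqE : ∀ w, IsPullback (j w) (pullback.snd q2 (ι w)) q2 (ι w) := fun w => IsPullback.of_hasPullback _ _
  haveI : ∀ w, IsFinite (j w) := fun w => inferInstance
  haveI : ∀ w, IsLocallyNoetherian (E w) := fun w => LocallyOfFiniteType.isLocallyNoetherian (j w)
  have hdeltaS : ∀ w : S, δY (ι w (genericPoint (W w))) = b := fun w => by
    rw [hι]
    exact by_contra fun h => w.2 (hv _ h)
  have hdim : ∀ w : S, ∃ r : ℕ, Cyc.HasRelDim (j w ≫ q1) r ∧ (r : ℤ) = b := fun w => by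
    obtain ⟨n, hn, hdn⟩ := Groth.L22.Bundle.deltaCompat_comp (ι w) pY hδY (genericPoint (W w))
    exact ⟨n, Groth.L22.Cyc.hasRelDim_baseChange ((sqE w).flip.paste_vert sq.flip)
      (hasRelDim_integral (ι w ≫ pY) hn), by
        replace hdn : δY (ι w (genericPoint (W w))) = (0 : ℤ) + n := hdn
        rw [hdeltaS] at hdn
        omega⟩
  choose r hr hrb using hdim
  have hsh : ∀ w, Shift (j w ≫ q1) (fun t => δP (j w t)) δX b := fun w =>
    hdeltaS w ▸ shift_piece sq hδX hδY hP (sqE w)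
  let π := Sigma.desc j
  haveI : IsFinite π := Groth.L16.BivarVanish.isFinite_sigmaDesc_locFin j fun U hU => by
    obtain ⟨V', hV', hUV', hfin⟩ := Groth.L22.Kron.exists_prod.exists_finite_image v q2 hU
    refine Set.Finite.of_finite_image (hfin.subset ?_) Subtype.val_injective.injOn
    rintro _ ⟨w, ⟨_, ⟨t, rfl⟩, ht⟩, rfl⟩
    refine ⟨?_, w.2⟩
    have h1 : q2 (j w t) ∈ V' := hUV' ⟨_, ht, rfl⟩
    rw [← Scheme.Hom.comp_apply, (sqE w).w, Scheme.Hom.comp_apply, ← (hι w)] at *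
    exact ((genericPoint_specializes _).map (ι w).continuous).mem_open hV' h1
  haveI : IsLocallyNoetherian (∐ E) := LocallyOfFiniteType.isLocallyNoetherian π
  obtain ⟨δZ, hsZ, hδZ⟩ := Groth.L22.Cyc.exists_setup π hsP
  let σ : ∀ w, E w ⟶ ∐ E := fun w => Sigma.ι E w
  have hσπ : ∀ w, σ w ≫ π = j w := fun w => Sigma.ι_desc j w
  have hdisj : ∀ w w', w ≠ w' → Disjoint (Set.range (σ w)) (Set.range (σ w')) := fun w w' h =>
    (TopologicalSpace.Opens.coe_disjoint).2 (disjoint_opensRange_sigmaι E w w' h)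
  have hcov : ∀ x : ↥(∐ E), ∃ w, x ∈ Set.range (σ w) := fun x => by
    obtain ⟨w, t, ht⟩ := (sigmaOpenCover E).exists_eq x
    exact ⟨w, t, ht⟩
  have hδσ : ∀ w, Cyc.DeltaCompat (σ w) (fun t => δP (j w t)) δZ := fun w =>
    Groth.L22.Bundle.deltaCompat_cancel (σ w) π
      (by rw [hσπ]; exact Groth.L22.C1.deltaCompat_closedImmersion (j w) δP) hδZ
  have hsE : ∀ w, Cyc.IsSetup (E w) fun t => δP (j w t) := fun w =>
    Groth.L22.C1.isSetup_closedImmersion (j w) hsP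
  let sP : Bivar.OSq X δX := ⟨P, q1, hq1, δP, hδP⟩
  let sZ : Bivar.OSq X δX := ⟨∐ E, π ≫ q1, inferInstance, δZ, Bivar.deltaCompat_comp π q1 δZ δP δX hδZ hδP⟩
  let sE : S → Bivar.OSq X δX := fun w => ⟨E w, j w ≫ q1, inferInstance, fun t => δP (j w t),
    Bivar.deltaCompat_comp (j w) q1 _ δP δX (Groth.L22.C1.deltaCompat_closedImmersion (j w) δP) hδP⟩
  /- the weighted pull-back -/
  choose idx pt hpt using hcov
  have hidx : ∀ (w : S) (t : E w), ∃ e : idx (σ w t) = w, HEq (pt (σ w t)) t := fun w t => by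
    have e : idx (σ w t) = w := eq_of_apply_eq σ hdisj (hpt (σ w t))
    have key : ∀ (w' : S) (t' : E w'), w' = w → σ w' t' = σ w t → HEq t' t := by
      rintro w' t' rfl h
      exact heq_of_eq ((σ w').isOpenEmbedding.injective h)
    exact ⟨e, key _ _ e (hpt _)⟩
  have mk : ∀ A : AlgebraicCycle X ℤ, ∃ F : AlgebraicCycle (∐ E) ℤ,
      (∀ w t, F (σ w t) = v w.1 * pullC (j w ≫ q1) (hsh w) A t) ∧
      ∀ z, AlgebraicCycle.map π δZ δP F z = prodVal q1 q2 δX δY δP ⇑A ⇑v z := fun A => by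
    obtain ⟨F, hF⟩ := Groth.L22.C1.exists_cycle
      (fun x : ↥(∐ E) => v (idx x).1 * pullC (j (idx x) ≫ q1) (hsh (idx x)) A (pt x)) fun x => by
      obtain ⟨O, hO, hxO, -⟩ := exists_isAffineOpen_mem_and_subset (x := pt x) (U := ⊤) trivial
      refine ⟨σ (idx x) ''ᵁ O, ⟨pt x, hxO, hpt x⟩,
        (((pullC (j (idx x) ≫ q1) (hsh (idx x)) A).locallyFiniteSupport.finite_inter_support_of_isCompact
          hO.isCompact).image (σ (idx x))).subset fun y hy => ?_⟩
      obtain ⟨t, ht, rfl⟩ := hy.2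
      obtain ⟨e, he⟩ := hidx (idx x) t
      have key : ∀ (w' : S) (t' : E w'), w' = idx x → HEq t' t →
          pullC (j w' ≫ q1) (hsh w') A t' = pullC (j (idx x) ≫ q1) (hsh (idx x)) A t := by
        rintro w' t' rfl h
        rw [eq_of_heq h]
      exact ⟨t, ⟨ht, fun h0 => hy.1 (mul_eq_zero_of_right _ ((key _ _ e he).trans h0))⟩, rfl⟩
    have hF' : ∀ w t, F (σ w t) = v w.1 * pullC (j w ≫ q1) (hsh w) A t := fun w t => by
      rw [hF]
      obtain ⟨e, he⟩ := hidx w t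
      have key : ∀ (w' : S) (t' : E w'), w' = w → HEq t' t →
          v w'.1 * pullC (j w' ≫ q1) (hsh w') A t' = v w.1 * pullC (j w ≫ q1) (hsh w) A t := by
        rintro w' t' rfl h
        rw [eq_of_heq h]
      exact key _ _ e he
    refine ⟨F, hF', fun z => ?_⟩
    show (∑ᶠ x ∈ π ⁻¹' {z}, F x * ((AlgebraicCycle.mapCoeff π δZ δP x : ℕ) : ℤ)) = _
    have hcoef : ∀ w t, ((AlgebraicCycle.mapCoeff π δZ δP (σ w t) : ℕ) : ℤ) = 1 := fun w t => by
      rw [Groth.L22.Cyc.mapCoeff_eq π hδZ]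
      have h1 := Groth.L22.Cyc.residueDegree_congr _ (hσπ w) t
      rw [Groth.L22.Cyc.residueDegree_comp, Groth.L22.Cyc.residueDegree_eq_one (j w) t
        (Groth.L22.FibreDim.residueFieldMap_bijective _ _)] at h1
      rw [Nat.eq_one_of_mul_eq_one_right h1, Nat.cast_one]
    have hzero : ∀ x, π x = z → F x ≠ 0 → ∃ (h : v (q2 z) ≠ 0) (t : E ⟨q2 z, h⟩),
        j ⟨q2 z, h⟩ t = z ∧ x = σ ⟨q2 z, h⟩ t := fun x hx hne => by
      obtain ⟨w, t, rfl⟩ : ∃ w t, σ w t = x := ⟨idx x, pt x, hpt x⟩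
      rw [hF'] at hne
      have hjt : j w t = z := by rw [← hx, ← hσπ]; rfl
      have hpf := point_formula sq hδX hδY hP (sqE w) w.1 (hι w) (hsh w) A z
      rw [← hjt, Groth.L22.SubBundle.pushC_apply_closed] at hpf
      rw [hpf] at hne
      obtain ⟨w, hw⟩ := w
      have hq : q2 z = w := by
        by_contra hq
        rw [if_neg fun h => hq (hjt ▸ h.2), mul_zero] at hne
        exact hne rfl
      subst hq
      exact ⟨hw, t, hjt, rfl⟩
    by_cases hv0 : v (q2 z) = 0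
    · rw [prodVal, hv0, mul_zero, zero_mul, ite_self]
      refine finsum_mem_eq_zero_of_forall_eq_zero fun x hx => ?_
      by_contra h
      exact (hzero x hx (left_ne_zero_of_mul h)).1 hv0
    · let w : S := ⟨q2 z, hv0⟩
      have hval : prodVal q1 q2 δX δY δP ⇑A ⇑v z =
          v w.1 * pushC (j w) (fun t => δP (j w t)) δP (pullC (j w ≫ q1) (hsh w) A) z := by
        rw [point_formula sq hδX hδY hP (sqE w) w.1 (hι w) (hsh w) A z, prodVal]
        simp only [w, and_true]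
        split_ifs <;> ring
      rw [hval]
      by_cases hr : z ∈ Set.range (j w)
      · obtain ⟨t, ht⟩ := hr
        rw [finsum_mem_inter_support_eq' _ (π ⁻¹' {z}) {σ w t} ?_, finsum_mem_singleton, hcoef, mul_one, hF', ← ht,
          Groth.L22.SubBundle.pushC_apply_closed]
        intro x hx
        refine ⟨fun hxz => ?_, fun hxs => ?_⟩
        · obtain ⟨_, t', ht', rfl⟩ := hzero x hxz (left_ne_zero_of_mul hx)
          rw [(j w).isEmbedding.injective (ht'.trans ht.symm)]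
          rfl
        · rw [Set.mem_preimage, Set.mem_singleton_iff, show x = σ w t from hxs, ← Scheme.Hom.comp_apply, hσπ, ht]
      · rw [Groth.L22.SubBundle.pushC_outside (j w) δP _ hr, mul_zero]
        refine finsum_mem_eq_zero_of_forall_eq_zero fun x hx => ?_
        by_contra h
        obtain ⟨_, t', ht', -⟩ := hzero x hx (left_ne_zero_of_mul h)
        exact hr ⟨t', ht'⟩
  obtain ⟨F, hF, hFmap⟩ := mk u
  obtain ⟨F', hF', hF'map⟩ := mk β
  have hFm : ∀ (A : AlgebraicCycle X ℤ) (i : ℤ), A ∈ Cyc.Zk X δX i → ∀ G : AlgebraicCycle (∐ E) ℤ,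
      (∀ w t, G (σ w t) = v w.1 * pullC (j w ≫ q1) (hsh w) A t) → G ∈ Cyc.Zk (∐ E) δZ (i + b) := by
    intro A i hA G hG x hx
    obtain ⟨w, t, rfl⟩ : ∃ w t, σ w t = x := ⟨idx x, pt x, hpt x⟩
    have hd : δP (j w t) = δZ (σ w t) := congrFun (delta_openImmersion (σ w) (hδσ w)) t
    rw [hG, pullC_mem (j w ≫ q1) (hsh w) hA t (by rw [hd]; exact hx), mul_zero]
  have hFm1 : F ∈ Cyc.Zk (∐ E) δZ (a + b) := hFm u a hu F hF
  have hFm2 : F' ∈ Cyc.Zk (∐ E) δZ (a + b - p) := by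
    rw [show a + b - p = a - p + b by ring]; exact hFm β _ hβ F' hF'
  have key : c.op sZ (a + b) (ChowOps.cl F hFm1) = ChowOps.cl F' hFm2 := by
    refine resOp_injective σ hdisj (fun x => ⟨idx x, pt x, hpt x⟩) hsZ hsE hδσ _ _ fun w => ?_
    rw [← op_res' hsX c sZ (sE w) (σ w) (by show σ w ≫ π ≫ q1 = j w ≫ q1; rw [← Category.assoc, hσπ]) hsZ (hsE w)
      (hδσ w)]
    haveI : LocallyOfFiniteType (j w ≫ q1) := inferInstance
    haveI : Flat (j w ≫ q1) := flat_piece sq (sqE w)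
    have hdel : Cyc.DeltaCompat (j w ≫ q1) (fun t => δP (j w t)) δX := (sE w).compat
    have hself : Cyc.IsSetup (Bivar.OSq.self X δX).Y (Bivar.OSq.self X δX).δ := hsX
    have eb : a + (r w : ℤ) = a + b := by rw [hrb]
    have hpa := pull_apply (hr w) (hr w) (hsE w) hself hdel (hsE w) hself hdel
      (c.pull (Bivar.OSq.self X δX) (sE w) (j w ≫ q1) (r w) (hr w) (Category.comp_id _) a)
      (show a - p + (r w : ℤ) = a + (r w : ℤ) - p by ring) (ChowOps.cl u hu)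
    have hcoe : ∀ A : AlgebraicCycle X ℤ, ⇑(pullC (j w ≫ q1) (hsh w) A) =
        Cyc.pullFun (j w ≫ q1) (fun t => δP (j w t)) δX (r w : ℤ) ⇑A := fun A => by
      rw [pullC_coe, hrb]
    have hm1 := Bivar.pullFun_mem_Zk (j w ≫ q1) _ δX (r w : ℤ) a hu _ (hcoe u)
    have hm2 := Bivar.pullFun_mem_Zk (j w ≫ q1) _ δX (r w : ℤ) (a - p) hβ _ (hcoe β)
    rw [pullOp_cl _ (hr w) (hsE w) hsX hdel u hu _ (hcoe u) hm1,
      show c.op (Bivar.OSq.self X δX) a (ChowOps.cl u hu) = ChowOps.cl β hβ from hcβ,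
      pullOp_cl _ (hr w) (hsE w) hsX hdel β hβ _ (hcoe β) hm2, Bivar.chCast_cl] at hpa
    obtain ⟨γ, hγ⟩ := exists_resCycle (σ w) (hsE w) (hδσ w) F
    obtain ⟨γ', hγ'⟩ := exists_resCycle (σ w) (hsE w) (hδσ w) F'
    rw [resOp_cl (σ w) hsZ (hsE w) (hδσ w) F hFm1 γ hγ (res_mem (σ w) (hδσ w) hFm1 hγ),
      resOp_cl (σ w) hsZ (hsE w) (hδσ w) F' hFm2 γ' hγ' (res_mem (σ w) (hδσ w) hFm2 hγ')]
    have e1 : γ = v w.1 • pullC (j w ≫ q1) (hsh w) u := DFunLike.ext _ _ fun t => by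
      rw [hγ, hF, Function.locallyFinsuppWithin.coe_zsmul, Pi.smul_apply, smul_eq_mul]
    have e2 : γ' = v w.1 • pullC (j w ≫ q1) (hsh w) β := DFunLike.ext _ _ fun t => by
      rw [hγ', hF', Function.locallyFinsuppWithin.coe_zsmul, Pi.smul_apply, smul_eq_mul]
    subst e1 e2
    have hgen : ∀ (M M' : ℤ) (eM : M = a + b) (eM' : M - p = M') (e' : M' = a + b - p)
        (h1 : pullC (j w ≫ q1) (hsh w) u ∈ Cyc.Zk (sE w).Y (sE w).δ M)
        (h2 : pullC (j w ≫ q1) (hsh w) β ∈ Cyc.Zk (sE w).Y (sE w).δ (M - p))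
        (h1' : v w.1 • pullC (j w ≫ q1) (hsh w) u ∈ Cyc.Zk (sE w).Y (sE w).δ (a + b))
        (h2' : v w.1 • pullC (j w ≫ q1) (hsh w) β ∈ Cyc.Zk (sE w).Y (sE w).δ (a + b - p)),
        c.op (sE w) M (ChowOps.cl _ h1) = ChowOps.cl _ h2 →
        c.op (sE w) (a + b) (ChowOps.cl _ h1') = ChowOps.cl _ h2' := by
      rintro M M' rfl rfl - h1 h2 h1' h2' h
      rw [show ChowOps.cl _ h1' = v w.1 • ChowOps.cl _ h1 from rfl, map_zsmul, h]
      rfl
    exact hgen _ _ eb rfl (by rw [eb]) hm1 _ _ _ hpa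
  haveI : IsProper π := inferInstance
  have hp := push_apply (h := π) (h' := π) hsZ hsP hδZ hsZ hsP hδZ
    (c.push sP sZ π rfl (a + b)) (ChowOps.cl F hFm1)
  rw [key, pushOp_cl, pushOp_cl] at hp
  rw [Bivar.cl_congr (DFunLike.coe_injective (hζ.trans (funext fun z => (hFmap z).symm))) hζm
      (Bivar.cycMap_mem_Zk π δZ δP _ hFm1), hp]
  exact Bivar.cl_congr (DFunLike.coe_injective ((funext hF'map).trans hζ'.symm)) _ _

end Groth.L22.Kron
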